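import Cfsg.Agent.McLRec3.Data
import Cfsg.Agent.U43Mult50.Check

/-!
The tables of the graph on 275 points, read as functions, and the checks on them.
-/

set_option autoImplicit false

namespace Cfsg.Agent.McLRec3

open Cfsg.Agent.ChevCore Cfsg.Agent.CosetEnum

/-- The number of natural numbers below `n` with a property. -/
noncomputable def cnt (n : ℕ) (f : ℕ → Bool) : ℕ :=
  Nat.rec 0 (fun i acc => bif f i then acc + 1 else acc) n

/-- A generator on lines. -/
def lpN (k i : ℕ) : ℕ := (lpTab.getD k 0 >>> (7 * i)) % 128

/-- A word on lines. -/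
def wN : List ℕ → ℕ → ℕ
  | [], i => i
  | k :: w, i => lpN k (wN w i)

/-- A tabled element fixing the first line. -/
def stN (j i : ℕ) : ℕ := (stTab.getD j 0 >>> (7 * i)) % 128

/-- The adjacency row. -/
def adjN (x : ℕ) : ℕ := adjTab.getD x 0

/-- The graph. -/
def adjB (x y : ℕ) : Bool := (adjN x).testBit y

/-- The graph of lines. -/
def la (i j : ℕ) : Bool := adjB (1 + i) (1 + j)

/-- The hemisystems of the first orbit. -/
def hmB (c i : ℕ) : Bool := adjB (113 + c) (1 + i)

/-- The lines of a clique. -/
def clN (k j : ℕ) : ℕ := (clTab >>> (7 * (4 * k + j))) % 128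

/-- An automorphism of the graph of lines. -/
def sigN (o i : ℕ) : ℕ := (sigTab.getD o 0 >>> (7 * i)) % 128

/-- Its inverse. -/
def sigI (o i : ℕ) : ℕ := (sigInvTab.getD o 0 >>> (7 * i)) % 128

/-- The hemisystems of the four orbits. -/
def memB (o c i : ℕ) : Bool := hmB c (sigI o i)

/-- The permutations of the first orbit. -/
def cpN (k c : ℕ) : ℕ := (cpTab.getD k 0 >>> (8 * c)) % 256

/-- The class of a line under the subgroup. -/
def clsN (i : ℕ) : ℕ := (clsTab >>> (2 * i)) % 4

/-- The generators permute the lines and have order three. -/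
noncomputable def permB : Bool :=
  kallUpTo 5 fun k => kallUpTo 112 fun i =>
    Nat.blt (lpN k i) 112 && Nat.beq (lpN k (lpN k (lpN k i))) i

/-- The adjacency of lines is invariant. -/
noncomputable def laInvB : Bool :=
  kallUpTo 5 fun k => forceNat (lpTab.getD k 0) fun P =>
    kallUpTo 112 fun i => forceNat (adjN (1 + i)) fun r => forceNat (adjN (1 + lpN k i)) fun r' =>
    kallUpTo 112 fun j => r.testBit (1 + j) == r'.testBit (1 + (P >>> (7 * j)) % 128)

/-- The tabled elements are the words. -/
noncomputable def stB : Bool :=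
  kallUpTo 7 fun j => Nat.beq (stN j 0) 0 && kallUpTo 112 fun i => Nat.beq (wN (wordTab.getD j []) i) (stN j i)

/-- Iterate. -/
def iterN (f : ℕ → ℕ) : ℕ → ℕ → ℕ
  | 0, i => i
  | n + 1, i => f (iterN f n i)

/-- The relations of the subgroup. -/
noncomputable def relB : Bool :=
  kallUpTo 112 fun i =>
    (kallUpTo 6 fun j => Nat.beq (stN j (stN j (stN j i))) i) &&
    (kallUpTo 4 fun a => kallUpTo 4 fun b => Nat.beq (stN a (stN b i)) (stN b (stN a i))) &&
    Nat.beq (stN 4 (stN 5 i)) (stN 5 (stN 4 i)) &&
    kallUpTo 2 fun u => kallUpTo 4 fun a =>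
      Nat.beq (stN (4 + u) (stN a i))
        (iterN (stN 0) (((conjTab.getD u []).getD a []).getD 0 0)
          (iterN (stN 1) (((conjTab.getD u []).getD a []).getD 1 0)
            (iterN (stN 2) (((conjTab.getD u []).getD a []).getD 2 0)
              (iterN (stN 3) (((conjTab.getD u []).getD a []).getD 3 0) (stN (4 + u) i)))))

/-- A checked forest: every child is the image of an earlier node. -/
def forest (gen : ℕ → ℕ → ℕ) (ngen : ℕ) : List ℕ → List ℕ → Option (List ℕ)
  | [], seen => some seen
  | e :: rest, seen =>
    if seen.contains (e / 8 % 128) && decide (e % 8 < ngen) &&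
        gen (e % 8) (e / 8 % 128) == e / 1024 then
      forest gen ngen rest (e / 1024 :: seen)
    else none

/-- A forest reaching every line. -/
def forestB (gen : ℕ → ℕ → ℕ) (ngen : ℕ) (T roots : List ℕ) : Bool :=
  match forest gen ngen T roots with
  | some seen => (List.range 112).all seen.contains
  | none => false

/-- The classes are constant along the subgroup. -/
noncomputable def clsB : Bool :=
  kallUpTo 6 fun j => kallUpTo 112 fun i => Nat.beq (clsN (stN j i)) (clsN i)

/-- The sizes of the classes. -/
noncomputable def clsSizeB : Bool :=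
  kallUpTo 4 fun t => Nat.beq (cnt 112 fun i => Nat.beq (clsN i) t) ([1, 3, 27, 81].getD t 0)

/-- The first line has thirty neighbours. -/
noncomputable def degB : Bool :=
  Nat.beq (cnt 112 fun j => la 0 j) 30 &&
    kallUpTo 112 fun i => (Nat.beq i 0 && !la 0 i) || la 0 i == !(Nat.beq (clsN i) 3)

/-- The base clique consists of the first line and the second class. -/
noncomputable def baseCliqueB : Bool :=
  kallUpTo 112 fun i => Nat.ble (clsN i) 1 ==
    kanyUpTo 4 fun j => Nat.beq (clN kQ j) i

/-- Two lists of four lines have the same lines. -/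
noncomputable def same4 (a b : ℕ → ℕ) : Bool :=
  (kallUpTo 4 fun j => kanyUpTo 4 fun l => Nat.beq (a j) (b l)) &&
    kallUpTo 4 fun j => kanyUpTo 4 fun l => Nat.beq (b j) (a l)

/-- The tree on the cliques. -/
def qForest : List ℕ → List ℕ → Option (List ℕ)
  | [], seen => some seen
  | e :: rest, seen =>
    if seen.contains (e / 8 % 512) && decide (e % 8 < 5) then qForest rest (e / 4096 :: seen) else none

/-- The images along the tree. -/
noncomputable def qEdgeB : Bool :=
  kall qTree fun e =>
    same4 (fun j => lpN (e % 8) (clN (e / 8 % 512) j)) (fun j => clN (e / 4096) j)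

/-- The cliques are cliques, with two further lines in common. -/
noncomputable def cliqueB : Bool :=
  kallUpTo 280 fun k => kallUpTo 4 fun a => forceNat (clN k a) fun i => Nat.blt i 112 &&
    kallUpTo 4 fun b => Nat.beq a b || forceNat (clN k b) fun j => !Nat.beq i j && la i j

/-- The common neighbours of a line with another are counted. -/
noncomputable def commonB : Bool :=
  kallUpTo 112 fun j => !la 0 j ||
    Nat.beq (cnt 112 fun i => la 0 i && la j i) 2

/-- Each hemisystem orbit is joined by its tree. -/
def oForest : List ℕ → List ℕ → Option (List ℕ)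
  | [], seen => some seen
  | e :: rest, seen =>
    if seen.contains (e / 8 % 256) && decide (e % 8 < 5) then oForest rest (e / 2048 :: seen) else none

/-- The images along the trees. -/
noncomputable def oEdgeB : Bool :=
  kallUpTo 4 fun o => kall (oTree.getD o []) fun e => forceNat (adjN (113 + e / 8 % 256)) fun r =>
    forceNat (adjN (113 + e / 2048)) fun r' => kallUpTo 112 fun i =>
      r.testBit (1 + sigI o i) == r'.testBit (1 + sigI o (lpN (e % 8) i))

/-- The trees cover the orbits. -/
def oCoverB : Bool :=
  (List.range 4).all fun o =>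
    match oForest (oTree.getD o []) [0] with
    | some seen => (List.range 162).all seen.contains
    | none => false

/-- The permutations of the first orbit. -/
noncomputable def cpB : Bool :=
  kallUpTo 5 fun k => kallUpTo 162 fun c => Nat.blt (cpN k c) 162 &&
    forceNat (adjN (113 + c)) fun r => forceNat (adjN (113 + cpN k c)) fun r' =>
      kallUpTo 112 fun i => r.testBit (1 + i) == r'.testBit (1 + lpN k i)

/-- The first orbit has distinct members. -/
noncomputable def distinctB : Bool :=
  kallUpTo 162 fun c => kallUpTo 162 fun d => Nat.beq c d ||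
    !Nat.beq ((adjN (113 + c) >>> 1) % 2 ^ 112) ((adjN (113 + d) >>> 1) % 2 ^ 112)

/-- The graph on the hemisystems is invariant. -/
noncomputable def ccInvB : Bool :=
  kallUpTo 5 fun k => forceNat (cpTab.getD k 0) fun P =>
    kallUpTo 162 fun c => forceNat (adjN (113 + c)) fun r => forceNat (adjN (113 + cpN k c)) fun r' =>
      kallUpTo 162 fun d => r.testBit (113 + d) == r'.testBit (113 + (P >>> (8 * d)) % 256)

/-- The automorphisms of the graph of lines. -/
noncomputable def sigB : Bool :=
  kallUpTo 4 fun o => forceNat (sigTab.getD o 0) fun P => kallUpTo 112 fun i =>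
    Nat.blt (sigN o i) 112 && Nat.blt (sigI o i) 112 && Nat.beq (sigI o (sigN o i)) i &&
      Nat.beq (sigN o (sigI o i)) i &&
      forceNat (adjN (1 + i)) fun r => forceNat (adjN (1 + sigN o i)) fun r' =>
        kallUpTo 112 fun j => r.testBit (1 + j) == r'.testBit (1 + (P >>> (7 * j)) % 128)

/-- The counts at the root hemisystem. -/
noncomputable def rootB : Bool :=
  (kallUpTo 112 fun j => hmB 0 j || Nat.beq (cnt 112 fun i => hmB 0 i && la j i) 20) &&
  (kallUpTo 162 fun d => adjB 113 (113 + d) ==
    Nat.beq (cnt 112 fun i => hmB 0 i && hmB d i) 20) &&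
  Nat.beq (cnt 162 fun d => Nat.beq (cnt 112 fun i => hmB 0 i && hmB d i) 20) 56

/-- The first vertex is joined to the lines. -/
noncomputable def topB : Bool :=
  (kallUpTo 275 fun y => adjB 0 y == (Nat.ble 1 y && Nat.blt y 113)) &&
  kallUpTo 275 fun x => forceNat (adjN x) fun r => !r.testBit x &&
    kallUpTo 275 fun y => r.testBit y == adjB y x

/-- The pairs of the base clique. -/
noncomputable def pairB : Bool :=
  kallUpTo 6 fun p => forceNat (([0, 0, 0, 1, 1, 2] : List ℕ).getD p 0) fun a =>
    forceNat (([1, 2, 3, 2, 3, 3] : List ℕ).getD p 0) fun b =>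
    same4 (fun j => wN (pairWords.getD p []) (clN kQ j)) (fun j => clN kQ j) &&
    ((Nat.beq (wN (pairWords.getD p []) (clN kQ a)) (clN kQ 0) &&
        Nat.beq (wN (pairWords.getD p []) (clN kQ b)) (clN kQ 1)) ||
      (Nat.beq (wN (pairWords.getD p []) (clN kQ a)) (clN kQ 1) &&
        Nat.beq (wN (pairWords.getD p []) (clN kQ b)) (clN kQ 0)))

end Cfsg.Agent.McLRec3
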