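import Cfsg.Agent.McLRec3.Basic

/-!
The checks on the tables of the graph on 275 points.
-/

set_option autoImplicit false

namespace Cfsg.Agent.McLRec3

theorem permB_true : permB = true := by decide +kernel
theorem laInvB_true : laInvB = true := by decide +kernel
theorem stB_true : stB = true := by decide +kernel
theorem relB_true : relB = true := by decide +kernel
theorem uForest_true : forestB stN 6 uTree rootTab = true := by decide +kernel
theorem sForest_true : forestB stN 7 sTree [0, rootTab.getD 1 0, rootTab.getD 3 0] = true := by
  decide +kernel
theorem lForest_true : forestB lpN 5 lTree [0] = true := by decide +kernel
theorem clsB_true : clsB = true := by decide +kernel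
theorem clsSizeB_true : clsSizeB = true := by decide +kernel
theorem degB_true : degB = true := by decide +kernel
theorem baseCliqueB_true : baseCliqueB = true := by decide +kernel
theorem qEdgeB_true : qEdgeB = true := by decide +kernel
theorem qCover_true : (match qForest qTree [kQ] with
    | some seen => (List.range 280).all seen.contains
    | none => false) = true := by decide +kernel
theorem cliqueB_true : cliqueB = true := by decide +kernel
theorem commonB_true : commonB = true := by decide +kernel
theorem oEdgeB_true : oEdgeB = true := by decide +kernel
theorem oCoverB_true : oCoverB = true := by decide +kernel
theorem cpB_true : cpB = true := by decide +kernel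
theorem distinctB_true : distinctB = true := by decide +kernel
theorem ccInvB_true : ccInvB = true := by decide +kernel
theorem sigB_true : sigB = true := by decide +kernel
theorem rootB_true : rootB = true := by decide +kernel
theorem topB_true : topB = true := by decide +kernel
theorem pairB_true : pairB = true := by decide +kernel

end Cfsg.Agent.McLRec3
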