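import Cfsg.Agent.McLRec3.Checked

/-!
The sets of lines meeting every clique of four lines twice.
-/

set_option autoImplicit false

namespace Cfsg.Agent.McLRec3

open Cfsg.Agent.ChevCore Cfsg.Agent.CosetEnum

/-- Add the bit `i` unless it is in `other`. -/
def addBit (m other i : ℕ) : ℕ := if other.testBit i then m else m ||| 1 <<< i

/-- A step of the search. -/
def stepN (n : ℕ) : ℕ := (progTab.getD (n / 64) 0 >>> (16 * (n % 64))) % 65536

/-- Count of a clique inside a mask. -/
def inCl (k m : ℕ) : ℕ :=
  (if m.testBit (clN k 0) then 1 else 0) + (if m.testBit (clN k 1) then 1 else 0) +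
    (if m.testBit (clN k 2) then 1 else 0) + (if m.testBit (clN k 3) then 1 else 0)

/-- A mask extended by the lines of a clique outside another. -/
def addCl (k m other : ℕ) : ℕ :=
  addBit (addBit (addBit (addBit m other (clN k 0)) other (clN k 1)) other (clN k 2)) other (clN k 3)

/-- All lines are decided, as in a tabled hemisystem. -/
noncomputable def solB (o c i1 i0 : ℕ) : Bool :=
  Nat.blt o 4 && Nat.blt c 162 && kallUpTo 112 fun i =>
    i1.testBit i == memB o c i && (i1.testBit i || i0.testBit i)

/-- The search, returning the position after it. -/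
noncomputable def runN : ℕ → ℕ → ℕ → ℕ → Option ℕ
  | 0, _, _, _ => none
  | fuel + 1, n, i1, i0 => forceNat (stepN n) fun s =>
    if s % 8 = 0 then
      if s / 8 < 280 ∧ (2 < inCl (s / 8) i1 ∨ 2 < inCl (s / 8) i0) then some (n + 1) else none
    else if s % 8 = 1 then
      if solB (s / 8 / 256) (s / 8 % 256) i1 i0 then some (n + 1) else none
    else if s % 8 = 2 then
      if 280 ≤ s / 8 then none
      else if 2 ≤ inCl (s / 8) i1 then
        forceNat (addCl (s / 8) i0 i1) fun j0 => runN fuel (n + 1) i1 j0
      else if 2 ≤ inCl (s / 8) i0 then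
        forceNat (addCl (s / 8) i1 i0) fun j1 => runN fuel (n + 1) j1 i0
      else none
    else
      match forceNat (i1 ||| 1 <<< (s / 8)) fun j1 => runN fuel (n + 1) j1 i0 with
      | none => none
      | some m => forceNat (i0 ||| 1 <<< (s / 8)) fun j0 => runN fuel m i1 j0

/-- A hemisystem. -/
def IsHemi (X : ℕ → Bool) : Prop :=
  ∀ k < 280, ((if X (clN k 0) then 1 else 0) + (if X (clN k 1) then 1 else 0) +
    (if X (clN k 2) then 1 else 0) + (if X (clN k 3) then 1 else 0)) = 2

/-- The decided bits fit. -/
def Fits (X : ℕ → Bool) (i1 i0 : ℕ) : Prop :=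
  ∀ i, (i1.testBit i = true → X i = true) ∧ (i0.testBit i = true → X i = false)

theorem testBit_addBit (m other i j : ℕ) :
    (addBit m other i).testBit j = true ↔
      m.testBit j = true ∨ (j = i ∧ other.testBit i = false) := by
  unfold addBit
  cases h : other.testBit i with
  | true => simp
  | false =>
    simp only [Bool.false_eq_true, if_false, Nat.testBit_or, Bool.or_eq_true, Nat.one_shiftLeft,
      Nat.testBit_two_pow, decide_eq_true_eq, and_true]
    exact or_congr_right eq_comm

theorem testBit_addCl (k m other j : ℕ) :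
    (addCl k m other).testBit j = true ↔
      m.testBit j = true ∨ ∃ a < 4, j = clN k a ∧ other.testBit j = false := by
  simp only [addCl, testBit_addBit]
  constructor
  · rintro ((((h | ⟨rfl, h⟩) | ⟨rfl, h⟩) | ⟨rfl, h⟩) | ⟨rfl, h⟩)
    · exact Or.inl h
    · exact Or.inr ⟨0, by norm_num, rfl, h⟩
    · exact Or.inr ⟨1, by norm_num, rfl, h⟩
    · exact Or.inr ⟨2, by norm_num, rfl, h⟩
    · exact Or.inr ⟨3, by norm_num, rfl, h⟩
  · rintro (h | ⟨a, ha, rfl, h⟩)
    · exact Or.inl (Or.inl (Or.inl (Or.inl h)))
    · interval_cases a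
      · exact Or.inl (Or.inl (Or.inl (Or.inr ⟨rfl, h⟩)))
      · exact Or.inl (Or.inl (Or.inr ⟨rfl, h⟩))
      · exact Or.inl (Or.inr ⟨rfl, h⟩)
      · exact Or.inr ⟨rfl, h⟩

/-- The conclusion of the search. -/
def Found (X : ℕ → Bool) : Prop :=
  ∃ o < 4, ∃ c < 162, ∀ i < 112, X i = memB o c i

theorem runN_sound {X : ℕ → Bool} (hX : IsHemi X) :
    ∀ fuel n i1 i0 m, runN fuel n i1 i0 = some m → Fits X i1 i0 → Found X := by
  intro fuel
  induction fuel with
  | zero => intro n i1 i0 m h; simp [runN] at h
  | succ fuel ih =>
    intro n i1 i0 m h hf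
    have f1 : ∀ i, i1.testBit i = true → X i = true := fun i => (hf i).1
    have f0 : ∀ i, i0.testBit i = true → X i = false := fun i => (hf i).2
    have hle : ∀ k a, a < 4 → (if i1.testBit (clN k a) then 1 else 0) ≤
        (if X (clN k a) then 1 else 0) ∧ (if i0.testBit (clN k a) then 1 else 0) +
        (if X (clN k a) then 1 else 0) ≤ 1 := by
      intro k a _
      constructor
      · split_ifs with h1 h2 <;> first | omega | exact absurd (f1 _ h1) h2
      · split_ifs with h1 h2 <;> first | omega | exact absurd h2 (by rw [f0 _ h1]; decide)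
    simp only [runN, forceNat_eq] at h
    generalize stepN n = s at h
    by_cases h0 : s % 8 = 0
    · rw [if_pos h0] at h
      by_cases hc : s / 8 < 280 ∧ (2 < inCl (s / 8) i1 ∨ 2 < inCl (s / 8) i0)
      · exfalso
        have e := hX _ hc.1
        have a0 := hle (s / 8) 0 (by norm_num)
        have a1 := hle (s / 8) 1 (by norm_num)
        have a2 := hle (s / 8) 2 (by norm_num)
        have a3 := hle (s / 8) 3 (by norm_num)
        rcases hc.2 with h2 | h2 <;> simp only [inCl] at h2 <;> omega
      · rw [if_neg hc] at h; exact absurd h (by simp)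
    rw [if_neg h0] at h
    by_cases h1 : s % 8 = 1
    · rw [if_pos h1] at h
      by_cases hs : solB (s / 8 / 256) (s / 8 % 256) i1 i0 = true
      · simp only [solB, kallUpTo_iff, Bool.and_eq_true, Nat.blt_eq, beq_iff_eq,
          Bool.or_eq_true] at hs
        obtain ⟨⟨ho, hc⟩, hall⟩ := hs
        refine ⟨_, ho, _, hc, fun i hi => ?_⟩
        obtain ⟨e, hd⟩ := hall i hi
        rcases hd with hd | hd
        · rw [f1 i hd, ← e, hd]
        · rw [f0 i hd, ← e]
          cases h' : i1.testBit i with
          | false => rfl
          | true => exact absurd (f1 i h') (by rw [f0 i hd]; decide)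
      · rw [if_neg hs] at h; exact absurd h (by simp)
    rw [if_neg h1] at h
    by_cases h2 : s % 8 = 2
    · rw [if_pos h2] at h
      by_cases hk : 280 ≤ s / 8
      · rw [if_pos hk] at h; exact absurd h (by simp)
      rw [if_neg hk] at h
      have e := hX _ (not_le.1 hk)
      set k := s / 8
      have a0 := hle k 0 (by norm_num)
      have a1 := hle k 1 (by norm_num)
      have a2 := hle k 2 (by norm_num)
      have a3 := hle k 3 (by norm_num)
      by_cases hone : 2 ≤ inCl k i1
      · rw [if_pos hone] at h
        refine ih _ _ _ _ h fun i => ⟨f1 i, fun hi => ?_⟩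
        rcases (testBit_addCl k i0 i1 i).1 hi with hi | ⟨a, ha, rfl, hn⟩
        · exact f0 i hi
        by_contra hne
        rw [Bool.not_eq_false] at hne
        simp only [inCl] at hone
        interval_cases a <;> simp only [hn, hne, Bool.false_eq_true, if_true, if_false] at * <;>
          omega
      rw [if_neg hone] at h
      by_cases hzero : 2 ≤ inCl k i0
      · rw [if_pos hzero] at h
        refine ih _ _ _ _ h fun i => ⟨fun hi => ?_, f0 i⟩
        rcases (testBit_addCl k i1 i0 i).1 hi with hi | ⟨a, ha, rfl, hn⟩
        · exact f1 i hi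
        by_contra hne
        rw [Bool.not_eq_true] at hne
        simp only [inCl] at hzero
        interval_cases a <;> simp only [hn, hne, Bool.false_eq_true, if_true, if_false] at * <;>
          omega
      · rw [if_neg hzero] at h; exact absurd h (by simp)
    rw [if_neg h2] at h
    have hsh : ∀ v b i : ℕ, (v ||| 1 <<< b).testBit i = true → v.testBit i = true ∨ i = b := by
      intro v b i hi
      rw [Nat.testBit_or, Bool.or_eq_true, Nat.one_shiftLeft, Nat.testBit_two_pow,
        decide_eq_true_eq] at hi
      exact hi.imp id Eq.symm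
    cases hr : runN fuel (n + 1) (i1 ||| 1 <<< (s / 8)) i0 with
    | none => rw [hr] at h; exact absurd h (by simp)
    | some m' =>
      rw [hr] at h
      cases hb : X (s / 8) with
      | true =>
        refine ih _ _ _ _ hr fun i => ⟨fun hi => ?_, f0 i⟩
        rcases hsh _ _ _ hi with hi | rfl
        · exact f1 i hi
        · exact hb
      | false =>
        refine ih _ _ _ _ h fun i => ⟨f1 i, fun hi => ?_⟩
        rcases hsh _ _ _ hi with hi | rfl
        · exact f0 i hi
        · exact hb

theorem runN_true :
    (runN 500 0 (1 <<< clN kQ 0 ||| 1 <<< clN kQ 1) 0).isSome = true := by decide +kernel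

/-- A hemisystem through the first pair of the base clique is tabled. -/
theorem hemi_found {X : ℕ → Bool} (hX : IsHemi X) (h0 : X (clN kQ 0) = true)
    (h1 : X (clN kQ 1) = true) : Found X := by
  obtain ⟨m, hm⟩ := Option.isSome_iff_exists.1 runN_true
  refine runN_sound hX _ _ _ _ _ hm fun i => ⟨fun hi => ?_, fun hi => ?_⟩
  · rw [Nat.testBit_or, Bool.or_eq_true, Nat.one_shiftLeft, Nat.one_shiftLeft,
      Nat.testBit_two_pow, Nat.testBit_two_pow, decide_eq_true_eq, decide_eq_true_eq] at hi
    rcases hi with rfl | rfl
    · exact h0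
    · exact h1
  · simp at hi

end Cfsg.Agent.McLRec3
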