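import Cfsg.Agent.McLRec3.Group
import Cfsg.Agent.McLRec3.Search

/-!
The properties of the tabled hemisystems and of the graph on them.
-/

set_option autoImplicit false

namespace Cfsg.Agent.McLRec3

open Cfsg.Agent.ChevCore Cfsg.Agent.CosetEnum

theorem cnt_eq (n : ℕ) (f : ℕ → Bool) :
    cnt n f = (Finset.univ.filter fun i : Fin n => f i = true).card := by
  have h : cnt n f = ((Finset.range n).filter fun i => f i = true).card := by
    induction n with
    | zero => rfl
    | succ n ih =>
      show (bif f n then cnt n f + 1 else cnt n f) = _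
      rw [ih, Finset.range_add_one, Finset.filter_insert]
      cases hf : f n with
      | true => rw [if_pos rfl, Finset.card_insert_of_notMem (by simp)]; rfl
      | false => rw [if_neg (by simp)]; rfl
  rw [h, Finset.card_filter, Finset.card_filter, ← Fin.sum_univ_eq_sum_range
    (fun i => if f i = true then 1 else 0)]

theorem adjB_symm {x y : ℕ} (hx : x < 275) (hy : y < 275) : adjB x y = adjB y x := by
  have h := topB_true
  simp only [topB, kallUpTo_iff, forceNat_eq, Bool.and_eq_true, beq_iff_eq] at h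
  exact (h.2 x hx).2 y hy

theorem adjB_irrefl {x : ℕ} (hx : x < 275) : adjB x x = false := by
  have h := topB_true
  simp only [topB, kallUpTo_iff, forceNat_eq, Bool.and_eq_true, Bool.not_eq_true'] at h
  exact (h.2 x hx).1

theorem adjB_zero {y : ℕ} (hy : y < 275) : adjB 0 y = decide (1 ≤ y ∧ y < 113) := by
  have h := topB_true
  simp only [topB, kallUpTo_iff, forceNat_eq, Bool.and_eq_true, beq_iff_eq] at h
  rw [h.1 y hy, Bool.eq_iff_iff]
  simp [Nat.ble_eq, Nat.blt_eq]

theorem la_symm (i j : Fin 112) : la i j = la j i := adjB_symm (by omega) (by omega)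

theorem la_self (i : Fin 112) : la i i = false := adjB_irrefl (by omega)

theorem la_degree (i : Fin 112) :
    (Finset.univ.filter fun j : Fin 112 => la i j = true).card = 30 := by
  obtain ⟨g, hg⟩ := MulAction.exists_smul_eq LineGroup (0 : Fin 112) i
  have h := degB_true
  simp only [degB, Bool.and_eq_true, Nat.beq_eq] at h
  refine Eq.trans (Finset.card_bij (fun j _ => g⁻¹ • j) ?_ ?_ ?_) ((cnt_eq 112 (la 0)).symm.trans h.1)
  · intro j hj
    simp only [Finset.mem_filter, Finset.mem_univ, true_and] at hj ⊢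
    have e := la_invariant g.2 (0 : Fin 112) (g⁻¹ • j)
    simp only [← smul_val, smul_inv_smul, hg] at e
    exact e.symm.trans hj
  · exact fun x _ y _ e => MulAction.injective g⁻¹ e
  · intro k hk
    refine ⟨g • k, ?_, inv_smul_smul _ _⟩
    simp only [Finset.mem_filter, Finset.mem_univ, true_and] at hk ⊢
    rw [← hk, ← hg]
    exact la_invariant g.2 0 k

theorem la_common (i j : Fin 112) (hij : la i j = true) :
    (Finset.univ.filter fun l : Fin 112 => la i l = true ∧ la j l = true).card = 2 := by
  obtain ⟨g, hg⟩ := MulAction.exists_smul_eq LineGroup (0 : Fin 112) i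
  set j' := g⁻¹ • j with hj'
  have hgj : g • j' = j := smul_inv_smul g j
  have h0 : la 0 j' = true := by
    rw [← hij, ← hg, ← hgj]
    exact (la_invariant g.2 0 j').symm
  have hc := commonB_true
  simp only [commonB, kallUpTo_iff, Bool.or_eq_true, Bool.not_eq_true', Nat.beq_eq] at hc
  have h2 := (hc j' j'.isLt).resolve_left (by rw [h0]; decide)
  rw [cnt_eq] at h2
  refine Eq.trans ?_ h2
  refine (Finset.card_bij (fun k _ => g • k) ?_ ?_ ?_).symm
  · intro k hk
    simp only [Finset.mem_filter, Finset.mem_univ, true_and, Bool.and_eq_true] at hk ⊢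
    constructor
    · rw [← hk.1, ← hg]; exact la_invariant g.2 0 k
    · rw [← hk.2, ← hgj]; exact la_invariant g.2 j' k
  · exact fun x _ y _ e => MulAction.injective g e
  · intro l hl
    refine ⟨g⁻¹ • l, ?_, smul_inv_smul _ _⟩
    simp only [Finset.mem_filter, Finset.mem_univ, true_and, Bool.and_eq_true] at hl ⊢
    have e1 := la_invariant g.2 0 (g⁻¹ • l)
    have e2 := la_invariant g.2 j' (g⁻¹ • l)
    rw [← smul_val, ← smul_val, smul_inv_smul, hg] at e1
    simp only [← smul_val, smul_inv_smul, hgj] at e2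
    exact ⟨e1.symm.trans hl.1, e2.symm.trans hl.2⟩

theorem clique_spec {k : ℕ} (hk : k < 280) {a b : ℕ} (ha : a < 4) (hb : b < 4) (hab : a ≠ b) :
    clN k a ≠ clN k b ∧ la (clN k a) (clN k b) = true := by
  have h := cliqueB_true
  simp only [cliqueB, kallUpTo_iff, forceNat_eq, Bool.and_eq_true, Bool.or_eq_true, Nat.blt_eq,
    Nat.beq_eq, Bool.not_eq_true', ← Bool.not_eq_true] at h
  exact ((h k hk a ha).2 b hb).resolve_left hab

theorem sig_facts {o i : ℕ} (ho : o < 4) (hi : i < 112) :
    sigN o i < 112 ∧ sigI o i < 112 ∧ sigI o (sigN o i) = i ∧ sigN o (sigI o i) = i ∧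
      ∀ j < 112, la i j = la (sigN o i) (sigN o j) := by
  have h := sigB_true
  simp only [sigB, kallUpTo_iff, forceNat_eq, Bool.and_eq_true, Nat.blt_eq, Nat.beq_eq,
    beq_iff_eq] at h
  obtain ⟨⟨⟨⟨h1, h2⟩, h3⟩, h4⟩, h5⟩ := h o ho i hi
  exact ⟨h1, h2, h3, h4, h5⟩

/-- An automorphism of the graph of lines. -/
def sigma (o : Fin 4) : Equiv.Perm (Fin 112) where
  toFun i := ⟨sigN o i, (sig_facts o.isLt i.isLt).1⟩
  invFun i := ⟨sigI o i, (sig_facts o.isLt i.isLt).2.1⟩
  left_inv i := Fin.ext (sig_facts o.isLt i.isLt).2.2.1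
  right_inv i := Fin.ext (sig_facts o.isLt i.isLt).2.2.2.1

theorem la_sigma (o : Fin 4) (i j : Fin 112) : la (sigma o i) (sigma o j) = la i j :=
  ((sig_facts o.isLt i.isLt).2.2.2.2 j j.isLt).symm

theorem memB_sigma (o : Fin 4) (c : ℕ) (i : Fin 112) : memB o c (sigma o i) = hmB c i := by
  show hmB c (sigI o (sigN o i)) = _
  rw [(sig_facts o.isLt i.isLt).2.2.1]

theorem oEdge {o e : ℕ} (ho : o < 4) (he : e ∈ oTree.getD o []) (i : Fin 112) :
    memB o (e / 8 % 256) i = memB o (e / 2048) (lpN (e % 8) i) := by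
  have h := oEdgeB_true
  simp only [oEdgeB, kallUpTo_iff, kall_iff, forceNat_eq, beq_iff_eq] at h
  exact h o ho e he i i.isLt

theorem o_induction {o : ℕ} (ho : o < 4) {P : ℕ → Prop}
    (hstep : ∀ p c, ∀ k : Fin 5,
      (∀ i : Fin 112, memB o p i = memB o c (lpN k i)) → (P p ↔ P c))
    {c : ℕ} (hc : c < 162) : P c ↔ P 0 := by
  have key : ∀ (T seen out : List ℕ), (∀ e ∈ T, e ∈ oTree.getD o []) →
      (∀ x ∈ seen, (P x ↔ P 0)) → oForest T seen = some out → ∀ x ∈ out, (P x ↔ P 0) := by
    intro T
    induction T with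
    | nil =>
      intro seen out _ h e
      simp only [oForest, Option.some.injEq] at e
      exact e ▸ h
    | cons t T ih =>
      intro seen out hT h e
      rw [oForest] at e
      split_ifs at e with hc
      simp only [Bool.and_eq_true, List.contains_iff_mem, decide_eq_true_eq] at hc
      refine ih _ out (fun x hx => hT x (List.mem_cons_of_mem _ hx)) (fun x hx => ?_) e
      rcases List.mem_cons.1 hx with rfl | hx
      · exact (hstep (t / 8 % 256) (t / 2048) ⟨t % 8, hc.2⟩
          (fun i => oEdge ho (hT t List.mem_cons_self) i)).symm.trans (h _ hc.1)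
      · exact h x hx
  have hcov := oCoverB_true
  simp only [oCoverB, List.all_eq_true, List.mem_range] at hcov
  have hco := hcov o ho
  split at hco
  · next seen e =>
    refine key _ [0] seen (fun e he => he) (fun x hx => ?_) e c
      (List.contains_iff_mem.1 (List.all_eq_true.1 hco c (List.mem_range.2 hc)))
    rw [List.mem_singleton.1 hx]
  · exact absurd hco (by simp)

theorem hm_ext {c d : ℕ} (hc : c < 162) (hd : d < 162) (h : ∀ i < 112, hmB c i = hmB d i) :
    c = d := by
  have hdis := distinctB_true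
  simp only [distinctB, kallUpTo_iff, Bool.or_eq_true, Nat.beq_eq, Bool.not_eq_true',
    ← Bool.not_eq_true] at hdis
  refine (hdis c hc d hd).resolve_right fun hne => hne (Nat.eq_of_testBit_eq fun i => ?_)
  rw [Nat.testBit_mod_two_pow, Nat.testBit_mod_two_pow, Nat.testBit_shiftRight,
    Nat.testBit_shiftRight]
  by_cases hi : i < 112
  · rw [show (adjN (113 + c)).testBit (1 + i) = hmB c i from rfl,
      show (adjN (113 + d)).testBit (1 + i) = hmB d i from rfl, h i hi]
  · simp [hi]

theorem cp_facts (k : Fin 5) {c : ℕ} (hc : c < 162) :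
    cpN k c < 162 ∧ (∀ i < 112, hmB c i = hmB (cpN k c) (lpN k i)) ∧
      ∀ d < 162, adjB (113 + c) (113 + d) = adjB (113 + cpN k c) (113 + cpN k d) := by
  have h := cpB_true
  simp only [cpB, kallUpTo_iff, forceNat_eq, Bool.and_eq_true, Nat.blt_eq, beq_iff_eq] at h
  have h' := ccInvB_true
  simp only [ccInvB, kallUpTo_iff, forceNat_eq, beq_iff_eq] at h'
  exact ⟨(h k k.isLt c hc).1, (h k k.isLt c hc).2, fun d hd => h' k k.isLt c hc d hd⟩

/-- The number of lines in two hemisystems. -/
def meetN (c d : ℕ) : ℕ := (Finset.univ.filter fun i : Fin 112 => hmB c i && hmB d i).card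

/-- The properties of a tabled hemisystem. -/
def GoodRow (c : ℕ) : Prop :=
  (Finset.univ.filter fun d : Fin 162 => meetN c d = 20).card = 56 ∧
    ∀ d : Fin 162, adjB (113 + c) (113 + d) = decide (meetN c d = 20)

theorem goodRow {c : ℕ} (hc : c < 162) : GoodRow c := by
  suffices (c < 162 → GoodRow c) ↔ (0 < 162 → GoodRow 0) by
    refine this.2 (fun _ => ?_) hc
    have h := rootB_true
    simp only [rootB, Bool.and_eq_true, kallUpTo_iff, Nat.beq_eq, beq_iff_eq] at h
    obtain ⟨⟨-, h2⟩, h3⟩ := h
    refine ⟨?_, fun d => ?_⟩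
    · rw [cnt_eq] at h3
      refine Eq.trans (congrArg Finset.card (Finset.filter_congr fun d _ => ?_)) h3
      rw [Nat.beq_eq, cnt_eq]
      rfl
    · rw [h2 d d.isLt, Bool.eq_iff_iff, Nat.beq_eq, cnt_eq, decide_eq_true_eq]
      rfl
  refine o_induction (o := 0) (P := fun c => c < 162 → GoodRow c) (by norm_num) ?_ hc
  intro p c k hpc
  have hs : ∀ i : Fin 112, sigI 0 i = i := by decide +kernel
  have hpc' : ∀ i < 112, hmB p i = hmB c (lpN k i) := by
    intro i hi
    have := hpc ⟨i, hi⟩
    simp only [memB] at this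
    rw [hs ⟨i, hi⟩] at this
    have e2 := hs ⟨lpN k i, (lpN_facts k.isLt hi).1⟩
    simp only at e2
    rw [e2] at this
    exact this
  -- the same facts along the generator
  have step : ∀ p < 162, ∀ c < 162, cpN k p = c → (GoodRow p ↔ GoodRow c) := by
    intro p hp c hc e
    have hinj : Function.Injective fun d : Fin 162 =>
        (⟨cpN k d, (cp_facts k d.isLt).1⟩ : Fin 162) := by
      intro x y exy
      refine Fin.ext (hm_ext x.isLt y.isLt fun i hi => ?_)
      have exy' : cpN k x = cpN k y := congrArg Fin.val exy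
      rw [(cp_facts k x.isLt).2.1 i hi, (cp_facts k y.isLt).2.1 i hi, exy']
    let π : Fin 162 ≃ Fin 162 := Equiv.ofBijective _ (Finite.injective_iff_bijective.1 hinj)
    have hπ : ∀ d, (π d : ℕ) = cpN k d := fun d => rfl
    have hmeet : ∀ d : Fin 162, meetN p d = meetN c (π d) := by
      intro d
      rw [hπ, ← e]
      refine Finset.card_equiv (gp k) fun i => ?_
      simp only [Finset.mem_filter, Finset.mem_univ, true_and, gp_apply,
        ← (cp_facts k hp).2.1 i i.isLt, ← (cp_facts k d.isLt).2.1 i i.isLt]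
    have hadj : ∀ d : Fin 162, adjB (113 + p) (113 + d) = adjB (113 + c) (113 + π d) := by
      intro d
      rw [hπ, ← e]
      exact (cp_facts k hp).2.2 d d.isLt
    have hcard : (Finset.univ.filter fun d : Fin 162 => meetN p d = 20).card =
        (Finset.univ.filter fun d : Fin 162 => meetN c d = 20).card :=
      Finset.card_equiv π fun d => by simp [hmeet]
    unfold GoodRow
    rw [hcard]
    refine and_congr_right fun _ => ⟨fun h d => ?_, fun h d => ?_⟩
    · obtain ⟨d, rfl⟩ := π.surjective d
      rw [← hadj, ← hmeet]; exact h d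
    · rw [hadj, hmeet]; exact h (π d)
  by_cases hp : p < 162
  · by_cases hc : c < 162
    · have e : cpN k p = c := hm_ext (cp_facts k hp).1 hc fun i hi => by
        obtain ⟨j, hj, rfl⟩ : ∃ j < 112, lpN k j = i :=
          ⟨lpN k (lpN k i), (lpN_facts k.isLt (lpN_facts k.isLt hi).1).1,
            (lpN_facts k.isLt hi).2⟩
        rw [← (cp_facts k hp).2.1 j hj, hpc' j hj]
      exact ⟨fun h _ => (step p hp c hc e).1 (h hp), fun h _ => (step p hp c hc e).2 (h hc)⟩
    · exfalso
      have h1 : ∀ i < 112, hmB p i = false := fun i hi => by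
        rw [hpc' i hi, hmB, adjB, adjN, List.getD_eq_default _ _ ?_, Nat.zero_testBit]
        have : adjTab.length = 275 := by decide +kernel
        omega
      have : ∀ p : Fin 162, ∃ i : Fin 112, hmB p i = true := by decide +kernel
      obtain ⟨i, hi⟩ := this ⟨p, hp⟩
      rw [h1 i i.isLt] at hi
      exact Bool.false_ne_true hi
  · have hc : ¬ c < 162 := by
      intro hc
      have : ∀ c : Fin 162, ∃ i : Fin 112, hmB c i = true := by decide +kernel
      obtain ⟨i, hi⟩ := this ⟨c, hc⟩
      obtain ⟨j, hj, e⟩ : ∃ j < 112, lpN k j = (i : ℕ) :=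
        ⟨lpN k (lpN k i), (lpN_facts k.isLt (lpN_facts k.isLt i.isLt).1).1,
          (lpN_facts k.isLt i.isLt).2⟩
      have h0 : hmB p j = false := by
        rw [hmB, adjB, adjN, List.getD_eq_default _ _ ?_, Nat.zero_testBit]
        have : adjTab.length = 275 := by decide +kernel
        omega
      rw [hpc' j hj, e] at h0
      rw [show hmB c i = false from h0] at hi
      exact Bool.false_ne_true hi
    exact ⟨fun _ h => absurd h hc, fun _ h => absurd h hp⟩

theorem root_cross {j : ℕ} (hj : j < 112) (hn : hmB 0 j = false) :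
    (Finset.univ.filter fun i : Fin 112 => hmB 0 i && la j i).card = 20 := by
  have h := rootB_true
  simp only [rootB, Bool.and_eq_true, kallUpTo_iff, Bool.or_eq_true, Nat.beq_eq] at h
  have e := (h.1.1 j hj).resolve_left (by rw [hn]; decide)
  rw [cnt_eq] at e
  exact e

end Cfsg.Agent.McLRec3
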