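import Cfsg.Agent.McLRec3.Design

/-!
A rank three action of degree 275 with subdegrees 112, 162 and stabiliser the group of the lines
preserves the tabled graph.
-/

set_option autoImplicit false

namespace Cfsg.Agent.McLRec3

open Finset
open scoped Classical

variable {G : Type*} [Group G] [Finite G] {Ω : Type*} [Fintype Ω] [MulAction G Ω]
  [MulAction.IsPretransitive G Ω] {a b c : Ω}

/-- The data of the action. -/
structure Setup (G : Type*) [Group G] {Ω : Type*} [MulAction G Ω] (a b c : Ω) : Prop where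
  card : Nat.card Ω = 275
  hb : (MulAction.orbit (MulAction.stabilizer G a) b).ncard = 112
  hc : (MulAction.orbit (MulAction.stabilizer G a) c).ncard = 162

/-- The orbital of degree 112. -/
def Adj (G : Type*) [Group G] {Ω : Type*} [MulAction G Ω] (a b x y : Ω) : Prop :=
  ∃ g : G, g • a = x ∧ g • b = y

/-- The neighbours. -/
noncomputable def nbr (G : Type*) [Group G] {Ω : Type*} [Fintype Ω] [MulAction G Ω]
    (a b x : Ω) : Finset Ω := univ.filter fun y => Adj G a b x y

omit [Finite G] [Fintype Ω] [MulAction.IsPretransitive G Ω] in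
theorem Adj.smul {x y : Ω} (g : G) (h : Adj G a b x y) : Adj G a b (g • x) (g • y) := by
  obtain ⟨k, rfl, rfl⟩ := h
  exact ⟨g * k, mul_smul _ _ _, mul_smul _ _ _⟩

omit [Finite G] [Fintype Ω] [MulAction.IsPretransitive G Ω] in
theorem adj_smul_iff {x y : Ω} (g : G) : Adj G a b (g • x) (g • y) ↔ Adj G a b x y :=
  ⟨fun h => by simpa using h.smul g⁻¹, fun h => h.smul g⟩

omit [Finite G] [Fintype Ω] [MulAction.IsPretransitive G Ω] in
theorem adj_base {y : Ω} :
    Adj G a b a y ↔ y ∈ MulAction.orbit (MulAction.stabilizer G a) b :=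
  ⟨fun ⟨g, h1, h2⟩ => ⟨⟨g, h1⟩, h2⟩, fun ⟨g, h2⟩ => ⟨g.1, g.2, h2⟩⟩

variable (S : Setup G a b c)
include S

local notation "Ga" => MulAction.stabilizer G a
local notation "N" => nbr G a b

omit [Finite G] [MulAction.IsPretransitive G Ω] in
theorem mem_nbr {x y : Ω} : y ∈ N x ↔ Adj G a b x y := by simp [nbr]

omit [Finite G] [MulAction.IsPretransitive G Ω] in
theorem orbit_self : MulAction.orbit Ga a = {a} := by
  ext y
  simp only [Set.mem_singleton_iff]
  exact ⟨fun ⟨g, hg⟩ => hg ▸ g.2, fun e => by rw [e]; exact MulAction.mem_orbit_self a⟩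

omit [Finite G] [MulAction.IsPretransitive G Ω] in
theorem notMem_orbits : a ∉ MulAction.orbit Ga b ∧ a ∉ MulAction.orbit Ga c := by
  constructor <;> intro h
  · have := S.hb
    rw [← MulAction.orbit_eq_iff.2 h, orbit_self S, Set.ncard_singleton] at this
    omega
  · have := S.hc
    rw [← MulAction.orbit_eq_iff.2 h, orbit_self S, Set.ncard_singleton] at this
    omega

omit [Finite G] [MulAction.IsPretransitive G Ω] in
theorem orbits_disjoint : Disjoint (MulAction.orbit Ga b) (MulAction.orbit Ga c) := by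
  rw [Set.disjoint_left]
  intro x h1 h2
  have := S.hb
  rw [← MulAction.orbit_eq_iff.2 h1, MulAction.orbit_eq_iff.2 h2, S.hc] at this
  omega

omit [Finite G] [MulAction.IsPretransitive G Ω] in
theorem cases_orbit (x : Ω) (hx : x ≠ a) :
    x ∈ MulAction.orbit Ga b ∨ x ∈ MulAction.orbit Ga c := by
  by_contra hn
  push Not at hn
  have h1 : ({a} ∪ MulAction.orbit Ga b ∪ MulAction.orbit Ga c ∪ {x}).ncard = 276 := by
    rw [Set.ncard_union_eq, Set.ncard_union_eq, Set.ncard_union_eq, Set.ncard_singleton,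
      Set.ncard_singleton, S.hb, S.hc]
    · exact Set.disjoint_singleton_left.2 (notMem_orbits S).1
    · rw [Set.disjoint_union_left]
      exact ⟨Set.disjoint_singleton_left.2 (notMem_orbits S).2, orbits_disjoint S⟩
    · rw [Set.disjoint_singleton_right]
      simp [hn.1, hn.2, hx]
  have h2 := Set.ncard_le_card ({a} ∪ MulAction.orbit Ga b ∪ MulAction.orbit Ga c ∪ {x})
  rw [h1, S.card] at h2
  omega

omit [Finite G] [MulAction.IsPretransitive G Ω] in
theorem nbr_base : (N a : Set Ω) = MulAction.orbit Ga b := by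
  ext y
  simp [mem_nbr S, adj_base]

omit [Finite G] in
theorem card_nbr (x : Ω) : (N x).card = 112 := by
  obtain ⟨g, rfl⟩ := MulAction.exists_smul_eq G a x
  have h := S.hb
  rw [← nbr_base S, Set.ncard_coe_finset] at h
  refine Eq.trans (Finset.card_equiv (MulAction.toPerm g) fun y => ?_).symm h
  simp [mem_nbr S, adj_smul_iff]

omit [Finite G] [MulAction.IsPretransitive G Ω] in
theorem adj_irrefl (x : Ω) : ¬ Adj G a b x x := by
  rintro ⟨g, h1, h2⟩
  have : b = a := MulAction.injective g (h2.trans h1.symm)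
  exact (notMem_orbits S).1 (by rw [← this]; exact MulAction.mem_orbit_self _)

omit [Finite G] in
theorem adj_symm {x y : Ω} (h : Adj G a b x y) : Adj G a b y x := by
  set I : Ω → Finset Ω := fun y => univ.filter fun x => Adj G a b x y with hI
  have hin : ∀ y, (I y).card = (I a).card := by
    intro y
    obtain ⟨g, rfl⟩ := MulAction.exists_smul_eq G a y
    refine (Finset.card_equiv (MulAction.toPerm g) fun x => ?_).symm
    simp [hI, adj_smul_iff]
  have hsum : ∑ x, (N x).card = ∑ y, (I y).card := by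
    simp only [nbr, hI, Finset.card_filter]
    exact Finset.sum_comm
  rw [Finset.sum_congr rfl fun x _ => card_nbr S x, Finset.sum_congr rfl fun y _ => hin y,
    Finset.sum_const, Finset.sum_const, Finset.card_univ, ← Nat.card_eq_fintype_card, S.card,
    smul_eq_mul, smul_eq_mul] at hsum
  have hIa : (I a).card = 112 := by omega
  have hsub : ∀ z, Adj G a b z a → z ∈ MulAction.orbit Ga b := by
    intro z hz
    rcases cases_orbit S z fun e => adj_irrefl S a (e ▸ hz) with hB | hC
    · exact hB
    exfalso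
    have hCI : MulAction.orbit Ga c ⊆ (I a : Set Ω) := by
      intro w hw
      obtain ⟨g, rfl⟩ : w ∈ MulAction.orbit Ga z := by rwa [MulAction.orbit_eq_iff.2 hC]
      have := hz.smul (g : G)
      rw [show (g : G) • a = a from g.2] at this
      simp only [hI, Finset.coe_filter, Finset.mem_univ, true_and, Set.mem_ofPred_eq]
      exact this
    have := Set.ncard_le_ncard hCI (Finset.finite_toSet _)
    rw [S.hc, Set.ncard_coe_finset, hIa] at this
    omega
  obtain ⟨g, rfl⟩ := MulAction.exists_smul_eq G a y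
  have h' : Adj G a b (g⁻¹ • x) a := by simpa using h.smul g⁻¹
  have := (adj_base.2 (hsub _ h')).smul g
  simpa using this

omit [Finite G] in
theorem adj_comm {x y : Ω} : Adj G a b x y ↔ Adj G a b y x := ⟨adj_symm S, adj_symm S⟩

omit [Finite G] [MulAction.IsPretransitive G Ω] in
theorem com_smul (g : G) (x y : Ω) : (N (g • x) ∩ N (g • y)).card = (N x ∩ N y).card := by
  refine (Finset.card_equiv (MulAction.toPerm g) fun z => ?_).symm
  simp [mem_nbr S, adj_smul_iff]

omit [Finite G] in
theorem com_adj {x y : Ω} (h : Adj G a b x y) : (N x ∩ N y).card = (N a ∩ N b).card := by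
  obtain ⟨g, rfl, rfl⟩ := h
  exact com_smul S g a b

omit [Finite G] in
theorem com_nonadj {x y : Ω} (hne : x ≠ y) (h : ¬ Adj G a b x y) :
    (N x ∩ N y).card = (N a ∩ N c).card := by
  obtain ⟨g, rfl⟩ := MulAction.exists_smul_eq G a x
  obtain ⟨y, rfl⟩ : ∃ z, g • z = y := ⟨g⁻¹ • y, smul_inv_smul g y⟩
  rw [adj_smul_iff] at h
  rw [com_smul S]
  rcases cases_orbit S y fun e => hne (by rw [e]) with hB | hC
  · exact absurd (adj_base.2 hB) h
  · obtain ⟨k, rfl⟩ := hC
    have := com_smul S (k : G) a c
    rwa [show (k : G) • a = a from k.2] at this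

/-- The second orbit. -/
noncomputable def cset (a : Ω) (c : Ω) : Finset Ω :=
  univ.filter fun y => y ∈ MulAction.orbit (MulAction.stabilizer G a) c

omit [Finite G] [MulAction.IsPretransitive G Ω] in
theorem card_cset : (cset (G := G) a c).card = 162 := by
  rw [← S.hc, ← Set.ncard_coe_finset]
  congr 1
  ext y
  simp [cset]

omit [Finite G] [MulAction.IsPretransitive G Ω] in
theorem mem_cset {y : Ω} : y ∈ cset (G := G) a c ↔ y ≠ a ∧ ¬ Adj G a b a y := by
  simp only [cset, Finset.mem_filter, Finset.mem_univ, true_and, adj_base]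
  constructor
  · intro h
    exact ⟨fun e => (notMem_orbits S).2 (e ▸ h), fun hB => Set.disjoint_left.1 (orbits_disjoint S) hB h⟩
  · rintro ⟨h1, h2⟩
    exact (cases_orbit S y h1).resolve_left h2

omit [Finite G] [MulAction.IsPretransitive G Ω] in
theorem split_card (T : Finset Ω) :
    T.card = (if a ∈ T then 1 else 0) + (T ∩ N a).card + (T ∩ cset (G := G) a c).card := by
  have e : ∀ y, (1 : ℕ) = (if y = a then 1 else 0) + (if y ∈ N a then 1 else 0) +
      (if y ∈ cset (G := G) a c then 1 else 0) := by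
    intro y
    by_cases h : y = a
    · subst h
      simp [mem_nbr S, adj_irrefl S, mem_cset S]
    · by_cases h' : Adj G a b a y
      · simp [h, mem_nbr S, mem_cset S, h']
      · simp [h, mem_nbr S, mem_cset S, h']
  conv_lhs => rw [Finset.card_eq_sum_ones, Finset.sum_congr rfl fun y _ => e y,
    Finset.sum_add_distrib, Finset.sum_add_distrib]
  simp [Finset.sum_ite_mem]

omit [Finite G] in
theorem equation : 112 * (112 - 1 - (N a ∩ N b).card) = 162 * (N a ∩ N c).card := by
  have key : ∑ y ∈ N a, (N y ∩ cset (G := G) a c).card =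
      ∑ z ∈ cset (G := G) a c, (N a ∩ N z).card := by
    have e1 : ∀ y, (N y ∩ cset (G := G) a c).card =
        ∑ z ∈ cset (G := G) a c, if Adj G a b y z then 1 else 0 := fun y => by
      rw [← Finset.card_filter]
      congr 1
      ext z
      simp [mem_nbr S, and_comm]
    have e2 : ∀ z, (N a ∩ N z).card = ∑ y ∈ N a, if Adj G a b y z then 1 else 0 := fun z => by
      rw [← Finset.card_filter]
      congr 1
      ext y
      simp [mem_nbr S, adj_comm S (x := z)]
    simp only [e1, e2]
    exact Finset.sum_comm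
  have hA : ∀ y ∈ N a, (N y ∩ cset (G := G) a c).card = 112 - 1 - (N a ∩ N b).card := by
    intro y hy
    rw [mem_nbr S] at hy
    have h := split_card S (N y)
    rw [card_nbr S, if_pos ((mem_nbr S).2 (adj_symm S hy)), Finset.inter_comm (N y) (N a),
      com_adj S hy] at h
    omega
  have hB : ∀ z ∈ cset (G := G) a c, (N a ∩ N z).card = (N a ∩ N c).card := fun z hz =>
    com_nonadj S ((mem_cset S).1 hz).1.symm ((mem_cset S).1 hz).2
  rw [Finset.sum_congr rfl hA, Finset.sum_congr rfl hB, Finset.sum_const, Finset.sum_const,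
    card_nbr S, card_cset S, smul_eq_mul, smul_eq_mul] at key
  exact key

omit [Finite G] in
theorem lambda_ne : (N a ∩ N b).card ≠ 111 := by
  intro h
  have hmu : (N a ∩ N c).card = 0 := by
    have := equation S
    rw [h] at this
    omega
  set cl : Ω → Finset Ω := fun x => insert x (N x) with hcl
  have hcard : ∀ x, (cl x).card = 113 := fun x => by
    rw [hcl, Finset.card_insert_of_notMem (by simp [mem_nbr S, adj_irrefl S]), card_nbr S]
  have htrans : ∀ {x y z}, Adj G a b x y → Adj G a b y z → z ∈ cl x := by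
    intro x y z hxy hyz
    simp only [hcl, Finset.mem_insert, mem_nbr S]
    by_contra hn
    push Not at hn
    have h0 := com_nonadj S hn.1.symm hn.2
    rw [hmu, Finset.card_eq_zero] at h0
    have : y ∈ N x ∩ N z := by simp [mem_nbr S, hxy, adj_symm S hyz]
    rw [h0] at this
    exact Finset.notMem_empty _ this
  have heq : ∀ x y, y ∈ cl x → cl y = cl x := by
    intro x y hy
    refine Finset.eq_of_subset_of_card_le (fun z hz => ?_) (by rw [hcard, hcard])
    simp only [hcl, Finset.mem_insert, mem_nbr S] at hy hz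
    rcases hy with rfl | hy
    · simp only [hcl, Finset.mem_insert, mem_nbr S]; exact hz
    rcases hz with rfl | hz
    · simp only [hcl, Finset.mem_insert, mem_nbr S]; exact Or.inr hy
    · exact htrans hy hz
  have hfib : ∀ T ∈ Finset.univ.image cl, (Finset.univ.filter fun x => cl x = T).card = 113 := by
    intro T hT
    obtain ⟨x, -, rfl⟩ := Finset.mem_image.1 hT
    rw [← hcard x]
    congr 1
    ext y
    simp only [Finset.mem_filter, Finset.mem_univ, true_and]
    exact ⟨fun e => e ▸ Finset.mem_insert_self _ _, heq x y⟩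
  have h1 := Finset.card_eq_sum_card_image cl (Finset.univ : Finset Ω)
  rw [Finset.sum_congr rfl hfib, Finset.sum_const, smul_eq_mul, Finset.card_univ,
    ← Nat.card_eq_fintype_card, S.card] at h1
  omega

/-- The lines inside the first orbit. -/
structure Coords (ρ : LineGroup ≃* MulAction.stabilizer G a) where
  /-- the labelling -/
  β : Fin 112 → Ω
  inj : Function.Injective β
  mem : ∀ i, Adj G a b a (β i)
  surj : ∀ y, Adj G a b a y → ∃ i, β i = y
  equiv : ∀ r i, β (r • i) = (ρ r : G) • β i

omit [Finite G] [Fintype Ω] [MulAction.IsPretransitive G Ω] in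
theorem exists_coords (hR : Nat.card LineGroup = 3265920)
    (ρ : LineGroup ≃* MulAction.stabilizer G a) : Nonempty (Coords (b := b) ρ) := by
  set M : Subgroup LineGroup := (MulAction.stabilizer Ga b).comap ρ.toMonoidHom
  have hM : M.index = 112 := by
    rw [Subgroup.index_comap_of_surjective _ ρ.surjective, MulAction.index_stabilizer, S.hb]
  obtain ⟨i0, hi0⟩ := eq_stabilizer_of_index hR hM
  have key : ∀ r r' : LineGroup, (ρ r : G) • b = (ρ r' : G) • b ↔ r • i0 = r' • i0 := by
    intro r r'
    have e : r'⁻¹ * r ∈ M ↔ r'⁻¹ * r ∈ MulAction.stabilizer LineGroup i0 := by rw [hi0]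
    rw [MulAction.mem_stabilizer_iff, mul_smul, inv_smul_eq_iff] at e
    rw [← e]
    show _ ↔ ((ρ (r'⁻¹ * r) : Ga) : G) • b = b
    rw [map_mul, map_inv, Subgroup.coe_mul, Subgroup.coe_inv, mul_smul, inv_smul_eq_iff]
  have hg : ∀ i : Fin 112, ∃ r : LineGroup, r • i0 = i :=
    fun i => MulAction.exists_smul_eq LineGroup i0 i
  choose g hg using hg
  refine ⟨⟨fun i => (ρ (g i) : G) • b, fun i j e => ?_, fun i => adj_base.2 ⟨ρ (g i), rfl⟩,
    fun y hy => ?_, fun r i => ?_⟩⟩
  · rw [← hg i, ← hg j]; exact (key _ _).1 e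
  · obtain ⟨k, rfl⟩ := adj_base.1 hy
    refine ⟨ρ.symm k • i0, ?_⟩
    show (ρ (g _) : G) • b = _
    rw [(key _ (ρ.symm k)).2 (hg _), MulEquiv.apply_symm_apply]
    rfl
  · show _ = (ρ r : G) • (ρ (g i) : G) • b
    rw [← mul_smul, ← Subgroup.coe_mul, ← map_mul]
    exact (key _ _).2 (by rw [hg, mul_smul, hg])

omit [Finite G] in
/-- **The graph of the action is the tabled graph.** -/
theorem exists_labelling (hR : Nat.card LineGroup = 3265920)
    (ρ : LineGroup ≃* MulAction.stabilizer G a) :
    ∃ f : Fin 275 ≃ Ω, ∀ x y : Fin 275, Adj G a b (f x) (f y) ↔ adjB x y = true := by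
  obtain ⟨K⟩ := exists_coords S hR ρ
  -- adjacency between lines
  have hinvB : ∀ (r : LineGroup) i j,
      Adj G a b (K.β (r • i)) (K.β (r • j)) ↔ Adj G a b (K.β i) (K.β j) := fun r i j => by
    rw [K.equiv, K.equiv, adj_smul_iff]
  have hNa : N a = Finset.univ.image K.β := by
    ext y
    simp only [mem_nbr S, Finset.mem_image, Finset.mem_univ, true_and]
    exact ⟨K.surj y, fun ⟨i, hi⟩ => hi ▸ K.mem i⟩
  have hdeg : (Finset.univ.filter fun j : Fin 112 => Adj G a b (K.β 0) (K.β j)).card =
      (N a ∩ N b).card := by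
    rw [← com_adj S (K.mem 0), hNa, ← Finset.card_image_of_injective _ K.inj]
    refine congrArg Finset.card ?_
    ext y
    simp only [Finset.mem_image, Finset.mem_filter, Finset.mem_univ, true_and, Finset.mem_inter,
      mem_nbr S]
    constructor
    · rintro ⟨j, hj, rfl⟩; exact ⟨⟨j, rfl⟩, hj⟩
    · rintro ⟨⟨j, rfl⟩, hj⟩; exact ⟨j, hj, rfl⟩
  have hroot : rootTab.getD 1 0 < 112 ∧ rootTab.getD 3 0 < 112 ∧
      la 0 (rootTab.getD 1 0) = true ∧ la 0 (rootTab.getD 3 0) = false ∧
      rootTab.getD 3 0 ≠ 0 := by decide +kernel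
  set n1 : Fin 112 := ⟨_, hroot.1⟩
  set n3 : Fin 112 := ⟨_, hroot.2.1⟩
  have hclass : ∀ j : Fin 112, j ≠ 0 → (Adj G a b (K.β 0) (K.β j) ↔
      if la 0 j = true then Adj G a b (K.β 0) (K.β n1) else Adj G a b (K.β 0) (K.β n3)) := by
    intro j hj
    obtain ⟨g, hg, hgj⟩ := stab_orbits j hj
    by_cases hl : la 0 j = true
    · rw [if_pos hl, ← hinvB g 0 n1, show g • (0 : Fin 112) = 0 from hg]
      rw [show g • n1 = j from Fin.ext (by
        rw [← hgj]; congr 2; exact Fin.ext (by simp only [n1, hl, if_true, Nat.mod_eq_of_lt hroot.1]))]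
    · rw [if_neg hl, ← hinvB g 0 n3, show g • (0 : Fin 112) = 0 from hg]
      rw [show g • n3 = j from Fin.ext (by
        rw [← hgj]; congr 2; exact Fin.ext (by simp only [n3, hl, if_false, Nat.mod_eq_of_lt hroot.2.1, Bool.false_eq_true]))]
  have hla0 : la 0 0 = false := la_self 0
  have hd30 := la_degree 0
  have hlam : (N a ∩ N b).card = 30 ∧ Adj G a b (K.β 0) (K.β n1) ∧
      ¬ Adj G a b (K.β 0) (K.β n3) := by
    have heq := equation S
    have hne := lambda_ne S
    by_cases h1 : Adj G a b (K.β 0) (K.β n1) <;> by_cases h3 : Adj G a b (K.β 0) (K.β n3)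
    · exfalso
      apply hne
      rw [← hdeg, show (Finset.univ.filter fun j : Fin 112 => Adj G a b (K.β 0) (K.β j)) =
        Finset.univ.erase 0 by
          ext j
          simp only [Finset.mem_filter, Finset.mem_univ, true_and, Finset.mem_erase, and_true]
          refine ⟨fun h e => adj_irrefl S _ (e ▸ h), fun hj => ?_⟩
          rw [hclass j hj]
          split_ifs <;> assumption]
      simp
    · refine ⟨?_, h1, h3⟩
      rw [← hdeg, ← hd30]
      congr 1
      ext j
      simp only [Finset.mem_filter, Finset.mem_univ, true_and]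
      by_cases hj : j = 0
      · subst hj; simp [adj_irrefl S, hla0]
      · rw [hclass j hj]
        split_ifs with hl <;> simp_all
    · exfalso
      have : (N a ∩ N b).card = 81 := by
        rw [← hdeg]
        have h111 : ((Finset.univ.filter fun j : Fin 112 => j ≠ 0 ∧ ¬ la 0 j = true)).card = 81 := by
          decide +kernel
        rw [← h111]
        congr 1
        ext j
        simp only [Finset.mem_filter, Finset.mem_univ, true_and]
        by_cases hj : j = 0
        · subst hj; simp [adj_irrefl S]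
        · rw [hclass j hj]
          split_ifs with hl <;> simp_all
      rw [this] at heq
      omega
    · exfalso
      have : (N a ∩ N b).card = 0 := by
        rw [← hdeg, Finset.card_eq_zero, Finset.filter_eq_empty_iff]
        intro j _ hj
        by_cases hj0 : j = 0
        · exact adj_irrefl S _ (hj0 ▸ hj)
        · rw [hclass j hj0] at hj
          split_ifs at hj <;> contradiction
      rw [this] at heq
      omega
  obtain ⟨hl30, hA1, hA3⟩ := hlam
  have hmu : (N a ∩ N c).card = 56 := by
    have := equation S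
    rw [hl30] at this
    omega
  have hBB : ∀ i j : Fin 112, Adj G a b (K.β i) (K.β j) ↔ la i j = true := by
    intro i j
    obtain ⟨r, rfl⟩ := MulAction.exists_smul_eq LineGroup (0 : Fin 112) i
    obtain ⟨j, rfl⟩ : ∃ k, r • k = j := ⟨r⁻¹ • j, smul_inv_smul r j⟩
    rw [hinvB, smul_val, smul_val, la_invariant r.2]
    by_cases hj : j = 0
    · subst hj; simp [adj_irrefl S, hla0]
    · rw [hclass j hj]
      split_ifs with hl <;> simp_all
  -- the lines joined to a point of the second orbit
  set C := cset (G := G) a c with hC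
  let X : Ω → ℕ → Bool := fun z i => if h : i < 112 then decide (Adj G a b (K.β ⟨i, h⟩) z) else false
  have hX : ∀ z (i : Fin 112), X z i = decide (Adj G a b (K.β i) z) := fun z i => by
    simp only [X, dif_pos i.isLt]
  have hcol : ∀ i : Fin 112, (C.filter fun z => X z i = true).card = 81 := by
    intro i
    have h := split_card S (N (K.β i))
    rw [card_nbr S, if_pos ((mem_nbr S).2 (adj_symm S (K.mem i))),
      Finset.inter_comm (N (K.β i)) (N a), com_adj S (K.mem i), hl30] at h
    have e : (C.filter fun z => X z i = true) = N (K.β i) ∩ C := by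
      ext z; simp [hX, mem_nbr S, and_comm]
    rw [e, hC]
    omega
  have hpair : ∀ i j : Fin 112, la i j = true →
      (C.filter fun z => X z i = true ∧ X z j = true).card = 27 := by
    intro i j hij
    have h := split_card S (N (K.β i) ∩ N (K.β j))
    rw [com_adj S ((hBB i j).2 hij), hl30, if_pos (by
      simp [mem_nbr S, adj_symm S (K.mem i), adj_symm S (K.mem j)])] at h
    have e1 : (N (K.β i) ∩ N (K.β j) ∩ N a).card = 2 := by
      rw [hNa, ← la_common i j hij, ← Finset.card_image_of_injective _ K.inj]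
      refine congrArg Finset.card ?_
      ext y
      simp only [Finset.mem_inter, mem_nbr S, Finset.mem_image, Finset.mem_filter, Finset.mem_univ,
        true_and]
      constructor
      · rintro ⟨⟨h1, h2⟩, l, rfl⟩; exact ⟨l, ⟨(hBB _ _).1 h1, (hBB _ _).1 h2⟩, rfl⟩
      · rintro ⟨l, ⟨h1, h2⟩, rfl⟩; exact ⟨⟨(hBB _ _).2 h1, (hBB _ _).2 h2⟩, l, rfl⟩
    rw [e1] at h
    have e2 : (C.filter fun z => X z i = true ∧ X z j = true) = N (K.β i) ∩ N (K.β j) ∩ C := by
      ext z
      simp only [Finset.mem_filter, Finset.mem_inter, hX, mem_nbr S, decide_eq_true_eq]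
      tauto
    rw [e2, hC]
    omega
  have hhemi : ∀ z ∈ C, IsHemi (X z) := by
    intro z hz k hk
    let ind : ℕ → Ω → ℤ := fun p w => if X w (clN k p) then 1 else 0
    have hcl : ∀ p < 4, clN k p < 112 := fun p hp => clN_lt hk hp
    have s1 : ∀ p < 4, ∑ w ∈ C, ind p w = 81 := by
      intro p hp
      have := hcol ⟨_, hcl p hp⟩
      simp only [ind, Finset.sum_boole]
      exact_mod_cast this
    have s2 : ∀ p < 4, ∀ p' < 4, p ≠ p' → ∑ w ∈ C, ind p w * ind p' w = 27 := by
      intro p hp p' hp' hne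
      have := hpair ⟨_, hcl p hp⟩ ⟨_, hcl p' hp'⟩ (clique_spec hk hp hp' hne).2
      have e : ∀ w, ind p w * ind p' w =
          if X w (clN k p) = true ∧ X w (clN k p') = true then 1 else 0 := fun w => by
        simp only [ind]
        split_ifs <;> simp_all
      simp only [e, Finset.sum_boole]
      exact_mod_cast this
    have idem : ∀ p w, ind p w * ind p w = ind p w := fun p w => by
      simp only [ind]; split_ifs <;> norm_num
    set n : Ω → ℤ := fun w => ind 0 w + ind 1 w + ind 2 w + ind 3 w with hn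
    have hzero : ∑ w ∈ C, (n w - 2) ^ 2 = 0 := by
      have e : ∀ w, (n w - 2) ^ 2 = 4 - 3 * (ind 0 w + ind 1 w + ind 2 w + ind 3 w) +
          2 * (ind 0 w * ind 1 w + ind 0 w * ind 2 w + ind 0 w * ind 3 w + ind 1 w * ind 2 w +
            ind 1 w * ind 3 w + ind 2 w * ind 3 w) := fun w => by
        simp only [hn]
        linear_combination idem 0 w + idem 1 w + idem 2 w + idem 3 w
      rw [Finset.sum_congr rfl fun w _ => e w]
      simp only [Finset.sum_add_distrib, Finset.sum_sub_distrib, ← Finset.mul_sum,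
        Finset.sum_const, s1 0 (by norm_num), s1 1 (by norm_num), s1 2 (by norm_num),
        s1 3 (by norm_num), s2 0 (by norm_num) 1 (by norm_num) (by norm_num),
        s2 0 (by norm_num) 2 (by norm_num) (by norm_num),
        s2 0 (by norm_num) 3 (by norm_num) (by norm_num),
        s2 1 (by norm_num) 2 (by norm_num) (by norm_num),
        s2 1 (by norm_num) 3 (by norm_num) (by norm_num),
        s2 2 (by norm_num) 3 (by norm_num) (by norm_num),
        show C.card = 162 from card_cset S]
      norm_num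
    have := (Finset.sum_eq_zero_iff_of_nonneg fun w _ => sq_nonneg _).1 hzero z hz
    rw [sq_eq_zero_iff, sub_eq_zero] at this
    simp only [hn, ind] at this
    split_ifs at this ⊢ <;> simp_all
  have hXeq : ∀ (r : LineGroup) z (i : Fin 112), X ((ρ r : G) • z) (r • i : Fin 112) = X z i := by
    intro r z i
    rw [hX, hX, K.equiv, decide_eq_decide]
    exact adj_smul_iff _
  have hCinv : ∀ (r : LineGroup) z, z ∈ C → (ρ r : G) • z ∈ C := by
    intro r z hz
    simp only [hC, cset, Finset.mem_filter, Finset.mem_univ, true_and] at hz ⊢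
    exact MulAction.mem_orbit_of_mem_orbit (ρ r) hz
  -- a tabled hemisystem occurs
  obtain ⟨z0, hz0⟩ : C.Nonempty := Finset.card_pos.1 (by rw [hC, card_cset S]; norm_num)
  obtain ⟨z1, hz1, hp0, hp1⟩ : ∃ z ∈ C, X z (clN kQ 0) = true ∧ X z (clN kQ 1) = true := by
    have hk : kQ < 280 := by decide +kernel
    have hh := hhemi z0 hz0 kQ hk
    obtain ⟨p, hp, he⟩ : ∃ p < 6, X z0 (clN kQ (([0, 0, 0, 1, 1, 2] : List ℕ).getD p 0)) = true ∧
        X z0 (clN kQ (([1, 2, 3, 2, 3, 3] : List ℕ).getD p 0)) = true := by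
      cases e0 : X z0 (clN kQ 0) <;> cases e1 : X z0 (clN kQ 1) <;>
        cases e2 : X z0 (clN kQ 2) <;> cases e3 : X z0 (clN kQ 3) <;>
        simp only [e0, e1, e2, e3, Bool.false_eq_true, if_true, if_false] at hh <;>
        first
          | omega
          | exact ⟨0, by norm_num, e0, e1⟩
          | exact ⟨1, by norm_num, e0, e2⟩
          | exact ⟨2, by norm_num, e0, e3⟩
          | exact ⟨3, by norm_num, e1, e2⟩
          | exact ⟨4, by norm_num, e1, e3⟩
          | exact ⟨5, by norm_num, e2, e3⟩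
    have hpw := pairB_true
    simp only [pairB, ChevCore.kallUpTo_iff, CosetEnum.forceNat_eq, Bool.and_eq_true,
      Bool.or_eq_true, Nat.beq_eq] at hpw
    obtain ⟨-, hcase⟩ := hpw p hp
    have hlen : pairWords.getD p [] ∈ pairWords := by
      have : pairWords.length = 6 := by decide +kernel
      rw [List.getD_eq_getElem _ _ (by omega)]
      exact List.getElem_mem _
    set w := pairWords.getD p []
    let r : LineGroup := ⟨wordP w, wordP_mem w⟩
    have htr : ∀ i, i < 112 → X z0 i = true → X ((ρ r : G) • z0) (wN w i) = true := by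
      intro i hi hxi
      have := hXeq r z0 ⟨i, hi⟩
      rw [show ((r • (⟨i, hi⟩ : Fin 112) : Fin 112) : ℕ) = wN w i from
        wordP_apply (words_lt (Or.inr hlen)) ⟨i, hi⟩] at this
      rw [this]; exact hxi
    have ha : ([0, 0, 0, 1, 1, 2] : List ℕ).getD p 0 < 4 ∧
        ([1, 2, 3, 2, 3, 3] : List ℕ).getD p 0 < 4 := by
      interval_cases p <;> simp
    refine ⟨_, hCinv r z0 hz0, ?_⟩
    have t1 := htr _ (clN_lt hk ha.1) he.1
    have t2 := htr _ (clN_lt hk ha.2) he.2
    rcases hcase with ⟨q1, q2⟩ | ⟨q1, q2⟩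
    · rw [q1] at t1; rw [q2] at t2; exact ⟨t1, t2⟩
    · rw [q1] at t1; rw [q2] at t2; exact ⟨t2, t1⟩
  obtain ⟨o, ho, c1, hc1, hfound⟩ := hemi_found (hhemi z1 hz1) hp0 hp1
  -- so a whole orbit occurs
  have hall : ∀ d < 162, ∃ z ∈ C, ∀ i : Fin 112, X z i = memB o d i := by
    let P : ℕ → Prop := fun d => ∃ z ∈ C, ∀ i : Fin 112, X z i = memB o d i
    have hstep : ∀ p d, ∀ k : Fin 5,
        (∀ i : Fin 112, memB o p i = memB o d (lpN k i)) → (P p ↔ P d) := by
      intro p d k hpd
      let r : LineGroup := ⟨gp k, gp_mem k⟩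
      constructor
      · rintro ⟨z, hz, hzp⟩
        refine ⟨_, hCinv r z hz, fun i => ?_⟩
        obtain ⟨i, rfl⟩ : ∃ j, r • j = i := ⟨r⁻¹ • i, smul_inv_smul r i⟩
        rw [hXeq, hzp, hpd]; rfl
      · rintro ⟨z, hz, hzd⟩
        refine ⟨_, hCinv r⁻¹ z hz, fun i => ?_⟩
        have h1 := hXeq r ((ρ r⁻¹ : G) • z) i
        rw [← mul_smul, ← Subgroup.coe_mul, ← map_mul, mul_inv_cancel, map_one, Subgroup.coe_one,
          one_smul] at h1
        rw [← h1, hzd, hpd]; rfl
    intro d hd
    exact (o_induction ho hstep hd).2 ((o_induction ho hstep hc1).1 ⟨z1, hz1, fun i => hfound i i.isLt⟩)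
  choose Z hZmem hZX using fun d : Fin 162 => hall d d.isLt
  let oF : Fin 4 := ⟨o, ho⟩
  let γ : Fin 112 → Ω := fun i => K.β (sigma oF i)
  have hγ : Function.Injective γ := K.inj.comp (sigma oF).injective
  have hγγ : ∀ i j, Adj G a b (γ i) (γ j) ↔ la i j = true := fun i j => by
    rw [hBB, la_sigma]
  have hγZ : ∀ (i : Fin 112) (d : Fin 162), Adj G a b (γ i) (Z d) ↔ hmB d i = true := by
    intro i d
    rw [← memB_sigma oF d i, ← hZX d, hX, decide_eq_true_eq]
  have hZinj : Function.Injective Z := by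
    intro d d' e
    refine Fin.ext (hm_ext d.isLt d'.isLt fun i hi => ?_)
    have h1 := hγZ ⟨i, hi⟩ d
    rw [e, hγZ ⟨i, hi⟩ d'] at h1
    exact Bool.eq_iff_iff.2 h1.symm
  have hZim : Finset.univ.image Z = C := by
    refine Finset.eq_of_subset_of_card_le (fun z hz => ?_) ?_
    · obtain ⟨d, -, rfl⟩ := Finset.mem_image.1 hz
      exact hZmem d
    · rw [Finset.card_image_of_injective _ hZinj, hC, card_cset S]; simp
  have hNaγ : N a = Finset.univ.image γ := by
    rw [hNa]
    ext y
    simp only [Finset.mem_image, Finset.mem_univ, true_and, γ]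
    exact ⟨fun ⟨i, hi⟩ => ⟨(sigma oF).symm i, by simpa using hi⟩, fun ⟨i, hi⟩ => ⟨_, hi⟩⟩
  have hmeet : ∀ d d' : Fin 162, (N a ∩ (N (Z d) ∩ N (Z d'))).card = meetN d d' := by
    intro d d'
    rw [hNaγ, meetN, ← Finset.card_image_of_injective _ hγ]
    refine congrArg Finset.card ?_
    ext y
    simp only [Finset.mem_inter, Finset.mem_image, Finset.mem_univ, true_and, Finset.mem_filter,
      mem_nbr S, Bool.and_eq_true]
    constructor
    · rintro ⟨⟨i, rfl⟩, h1, h2⟩
      exact ⟨i, ⟨(hγZ i d).1 (adj_symm S h1), (hγZ i d').1 (adj_symm S h2)⟩, rfl⟩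
    · rintro ⟨i, ⟨h1, h2⟩, rfl⟩
      exact ⟨⟨i, rfl⟩, adj_symm S ((hγZ i d).2 h1), adj_symm S ((hγZ i d').2 h2)⟩
  -- adjacent points meet the lines in twenty
  have htwenty : ∀ d d' : Fin 162, Adj G a b (Z d) (Z d') → meetN d d' = 20 := by
    intro d d' hadj
    rw [← hmeet]
    have hd := (mem_cset S).1 (hZmem d)
    have hd' := (mem_cset S).1 (hZmem d')
    obtain ⟨g, hg⟩ := MulAction.exists_smul_eq G (Z d) a
    have hga : g • a ∈ C := (mem_cset S).2 ⟨fun e => hd.1 (MulAction.injective g (hg.trans e.symm)),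
      fun h => hd.2 (adj_symm S ((adj_smul_iff g).1 (hg.symm ▸ h)))⟩
    obtain ⟨k, hk⟩ : ∃ k : Ga, (k : G) • g • a = Z 0 := by
      have h1 := hga
      have h2 := hZmem 0
      simp only [hC, cset, Finset.mem_filter, Finset.mem_univ, true_and] at h1 h2
      rw [← MulAction.orbit_eq_iff.2 h1] at h2
      exact h2
    set h := (k : G) * g with hh
    have hhd : h • Z d = a := by rw [hh, mul_smul, hg]; exact k.2
    have hha : h • a = Z 0 := by rw [hh, mul_smul, hk]
    obtain ⟨j, -, hj⟩ := Finset.mem_image.1 (show h • Z d' ∈ Finset.univ.image γ by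
      have h' := hadj.smul h
      rw [hhd] at h'
      rw [← hNaγ, mem_nbr S]; exact h')
    have hjn : hmB 0 j = false := by
      by_contra hne
      rw [Bool.not_eq_false] at hne
      have := (hγZ j 0).2 hne
      rw [hj, ← hha, adj_smul_iff] at this
      exact hd'.2 (adj_symm S this)
    have hroot := root_cross j.isLt hjn
    rw [← hroot, ← Finset.card_image_of_injective _ hγ]
    refine Finset.card_equiv (MulAction.toPerm h) fun y => ?_
    simp only [Finset.mem_inter, mem_nbr S, MulAction.toPerm_apply, Finset.mem_image,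
      Finset.mem_filter, Finset.mem_univ, true_and, Bool.and_eq_true]
    rw [← adj_smul_iff (a := a) (b := b) h, hha, ← adj_smul_iff (a := a) (b := b) (x := Z d) h,
      hhd, ← adj_smul_iff (a := a) (b := b) (x := Z d') h, ← hj]
    constructor
    · rintro ⟨h1, h2, h3⟩
      obtain ⟨i, hi⟩ : ∃ i, γ i = h • y := by
        have := (mem_nbr S).2 h2
        rw [hNaγ] at this
        obtain ⟨i, -, hi⟩ := Finset.mem_image.1 this
        exact ⟨i, hi⟩
      rw [← hi] at h1 h3
      exact ⟨i, ⟨(hγZ i 0).1 (adj_symm S h1), (hγγ j i).1 h3⟩, hi⟩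
    · rintro ⟨i, ⟨h1, h3⟩, hi⟩
      rw [← hi]
      exact ⟨adj_symm S ((hγZ i 0).2 h1),
        (mem_nbr S).1 (by rw [hNaγ]; exact Finset.mem_image_of_mem _ (Finset.mem_univ i)),
        (hγγ j i).2 h3⟩
  have hZZ : ∀ d d' : Fin 162, Adj G a b (Z d) (Z d') ↔ meetN d d' = 20 := by
    intro d
    have hd := (mem_cset S).1 (hZmem d)
    have hsub : (Finset.univ.filter fun d' => Adj G a b (Z d) (Z d')) ⊆
        Finset.univ.filter fun d' : Fin 162 => meetN d d' = 20 := fun d' h' => by
      simp only [Finset.mem_filter, Finset.mem_univ, true_and] at h' ⊢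
      exact htwenty d d' h'
    have hcard : (Finset.univ.filter fun d' => Adj G a b (Z d) (Z d')).card = 56 := by
      have h := split_card S (N (Z d))
      rw [card_nbr S, if_neg (fun h => hd.2 (adj_symm S ((mem_nbr S).1 h))),
        Finset.inter_comm (N (Z d)) (N a), com_nonadj S (Ne.symm hd.1) hd.2, hmu] at h
      rw [← Finset.card_image_of_injective _ hZinj]
      have e : (Finset.univ.filter fun d' => Adj G a b (Z d) (Z d')).image Z = N (Z d) ∩ C := by
        ext y
        simp only [← hZim, Finset.mem_image, Finset.mem_inter, Finset.mem_filter, Finset.mem_univ,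
          true_and, mem_nbr S]
        exact ⟨fun ⟨d', h1, e⟩ => e ▸ ⟨h1, d', rfl⟩, fun ⟨h1, d', e⟩ => ⟨d', e ▸ h1, e⟩⟩
      rw [e, hC]
      omega
    have heq := Finset.eq_of_subset_of_card_le hsub (by rw [hcard, (goodRow d.isLt).1])
    intro d'
    constructor
    · exact htwenty d d'
    · intro h'
      have : d' ∈ Finset.univ.filter fun d' : Fin 162 => meetN d d' = 20 := by simp [h']
      rw [← heq] at this
      simpa using this
  -- the labelling
  let f : Fin 275 → Ω := fun x => if h0 : (x : ℕ) = 0 then a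
    else if h : (x : ℕ) < 113 then γ ⟨(x : ℕ) - 1, by omega⟩ else Z ⟨(x : ℕ) - 113, by omega⟩
  have f0 : f 0 = a := rfl
  have fL : ∀ (i : Fin 112) (h : 1 + (i : ℕ) < 275), f ⟨1 + i, h⟩ = γ i := fun i h => by
    simp only [f]
    rw [dif_neg (by omega), dif_pos (by omega)]
    congr 1
    exact Fin.ext (by simp)
  have fC : ∀ (d : Fin 162) (h : 113 + (d : ℕ) < 275), f ⟨113 + d, h⟩ = Z d := fun d h => by
    simp only [f]
    rw [dif_neg (by omega), dif_neg (by omega)]
    congr 1
    exact Fin.ext (by simp)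
  have hcases : ∀ x : Fin 275, x = 0 ∨ (∃ i : Fin 112, x = ⟨1 + i, by omega⟩) ∨
      ∃ d : Fin 162, x = ⟨113 + d, by omega⟩ := by
    intro x
    by_cases h0 : (x : ℕ) = 0
    · exact Or.inl (Fin.ext h0)
    by_cases h : (x : ℕ) < 113
    · exact Or.inr (Or.inl ⟨⟨x - 1, by omega⟩, Fin.ext (show (x : ℕ) = 1 + (x - 1) by omega)⟩)
    · exact Or.inr (Or.inr ⟨⟨x - 113, by omega⟩, Fin.ext (show (x : ℕ) = 113 + (x - 113) by omega)⟩)
  have hfinj : Function.Injective f := by
    have hγa : ∀ i, γ i ≠ a := fun i e => adj_irrefl S a (by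
      have h' := K.mem (sigma oF i)
      rwa [show K.β (sigma oF i) = a from e] at h')
    have hZa : ∀ d, Z d ≠ a := fun d => ((mem_cset S).1 (hZmem d)).1
    have hγZne : ∀ i d, γ i ≠ Z d := fun i d e =>
      ((mem_cset S).1 (hZmem d)).2 (by
        have h' := K.mem (sigma oF i)
        rwa [show K.β (sigma oF i) = Z d from e] at h')
    intro x y e
    rcases hcases x with rfl | ⟨i, rfl⟩ | ⟨d, rfl⟩ <;>
      rcases hcases y with rfl | ⟨j, rfl⟩ | ⟨d', rfl⟩ <;>
      simp only [f0, fL, fC] at e
    · rfl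
    · exact absurd e.symm (hγa j)
    · exact absurd e.symm (hZa d')
    · exact absurd e (hγa i)
    · rw [hγ e]
    · exact absurd e (hγZne i d')
    · exact absurd e (hZa d)
    · exact absurd e.symm (hγZne j d)
    · rw [hZinj e]
  have hbij : Function.Bijective f :=
    (Fintype.bijective_iff_injective_and_card f).2 ⟨hfinj, by
      rw [Fintype.card_fin, ← Nat.card_eq_fintype_card, S.card]⟩
  refine ⟨Equiv.ofBijective f hbij, ?_⟩
  have hup : ∀ x y : Fin 275, x ≤ y → (Adj G a b (f x) (f y) ↔ adjB x y = true) := by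
    intro x y hxy
    rcases hcases x with rfl | ⟨i, rfl⟩ | ⟨d, rfl⟩ <;>
      rcases hcases y with rfl | ⟨j, rfl⟩ | ⟨d', rfl⟩ <;>
      simp only [f0, fL, fC]
    · simp [adj_irrefl S, adjB_zero (show (0 : ℕ) < 275 by norm_num)]
    · simp only [Fin.val_zero, adjB_zero (show 1 + (j : ℕ) < 275 by omega), decide_eq_true_eq]
      exact iff_of_true (K.mem _) ⟨by omega, by omega⟩
    · simp only [Fin.val_zero, adjB_zero (show 113 + (d' : ℕ) < 275 by omega), decide_eq_true_eq]
      exact iff_of_false ((mem_cset S).1 (hZmem d')).2 (by omega)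
    · exact absurd hxy (by simp [Fin.le_def])
    · exact hγγ i j
    · rw [hγZ i d', adjB_symm (by omega) (by omega)]; rfl
    · exact absurd hxy (by simp [Fin.le_def])
    · exact absurd hxy (by simp [Fin.le_def]; omega)
    · rw [hZZ d d']
      have h := (goodRow d.isLt).2 d'
      rw [h, decide_eq_true_eq]
  intro x y
  simp only [Equiv.ofBijective_apply]
  rcases le_total x y with h | h
  · exact hup x y h
  · rw [adj_comm S, hup y x h, adjB_symm y.isLt x.isLt]

end Cfsg.Agent.McLRec3
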