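import Cfsg.Agent.McLRec3.Data
import Cfsg.Agent.U43Mult50.Check

/-!
The checks on the lines of the unitary space.
-/

set_option autoImplicit false

namespace Cfsg.Agent.McLRec3

open Cfsg.Agent.ChevCore Cfsg.Agent.U43Mult50

/-- The first spanning vector. -/
def uN (i : ℕ) : ℕ := (uTab >>> (13 * i)) % 8192

/-- The second spanning vector. -/
def vN (i : ℕ) : ℕ := (wTab >>> (13 * i)) % 8192

/-- The coefficients of an image. -/
def coefN (k i s : ℕ) : ℕ := (coefTab.getD k 0 >>> (16 * i + 4 * s)) % 16

/-- The inner product of two numerals. -/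
def hermN (x y : ℕ) : ℕ := csum fun r => cmul (digit x r) (cbar (digit y r))

/-- The images of the spanning vectors. -/
noncomputable def lineB : Bool :=
  kallUpTo 5 fun k => kallUpTo 112 fun i =>
    CosetEnum.forceNat ((lpTab.getD k 0 >>> (7 * i)) % 128) fun j => kallUpTo 4 fun r =>
      Nat.beq (csum fun l => cmul (mEnt k r l) (digit (uN i) l))
        (cadd (cmul (coefN k i 0) (digit (uN j) r)) (cmul (coefN k i 1) (digit (vN j) r))) &&
      Nat.beq (csum fun l => cmul (mEnt k r l) (digit (vN i) l))
        (cadd (cmul (coefN k i 2) (digit (uN j) r)) (cmul (coefN k i 3) (digit (vN j) r)))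

/-- The lines are totally isotropic. -/
noncomputable def isoB : Bool :=
  kallUpTo 112 fun i => Nat.beq (hermN (uN i) (uN i)) 0 && Nat.beq (hermN (uN i) (vN i)) 0 &&
    Nat.beq (hermN (vN i) (uN i)) 0 && Nat.beq (hermN (vN i) (vN i)) 0

/-- The lines are separated. -/
noncomputable def sepLineB : Bool :=
  kallUpTo 112 fun i => kallUpTo 112 fun j => Nat.beq i j ||
    !(Nat.beq (hermN (uN i) (uN j)) 0) || !(Nat.beq (hermN (uN i) (vN j)) 0) ||
    !(Nat.beq (hermN (vN i) (uN j)) 0) || !(Nat.beq (hermN (vN i) (vN j)) 0)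

theorem lineB_true : lineB = true := by decide +kernel
theorem isoB_true : isoB = true := by decide +kernel
theorem sepLineB_true : sepLineB = true := by decide +kernel

end Cfsg.Agent.McLRec3
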