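import Cfsg.Agent.McLRec3.Checked
import Cfsg.Agent.McLRec3.LineChecks
import Cfsg.Agent.U43Mult50.Cover
import Cfsg.Agent.Lib.Unitary.Simple

/-!
`PSU₄(3)` as a permutation group on the 112 lines of its unitary space.
-/

set_option autoImplicit false

namespace Cfsg.Agent.McLRec3

open Matrix Cfsg.Agent.Unitary Cfsg.Agent.U43Mult50 Cfsg.Agent.ChevCore Cfsg.Agent.CosetEnum

universe v

theorem lpN_facts {k i : ℕ} (hk : k < 5) (hi : i < 112) :
    lpN k i < 112 ∧ lpN k (lpN k (lpN k i)) = i := by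
  have h := permB_true
  simp only [permB, kallUpTo_iff, Bool.and_eq_true, Nat.blt_eq, Nat.beq_eq] at h
  exact h k hk i hi

/-- A generator as a permutation. -/
def gp (k : Fin 5) : Equiv.Perm (Fin 112) where
  toFun i := ⟨lpN k i, (lpN_facts k.isLt i.isLt).1⟩
  invFun i := ⟨lpN k (lpN k i), (lpN_facts k.isLt (lpN_facts k.isLt i.isLt).1).1⟩
  left_inv i := Fin.ext (lpN_facts k.isLt i.isLt).2
  right_inv i := Fin.ext (lpN_facts k.isLt i.isLt).2

theorem gp_apply (k : Fin 5) (i : Fin 112) : ((gp k i : Fin 112) : ℕ) = lpN k i := rfl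

/-- The group of the lines. -/
def LineGroup : Subgroup (Equiv.Perm (Fin 112)) := Subgroup.closure (Set.range gp)

variable {F : Type v} [Field F] {ι : F}

/-- A line. -/
def lineSet (ι : F) (i : Fin 112) : Set (Fin 4 → F) :=
  {x | ∃ a b : F, x = a • vecN ι (uN i) + b • vecN ι (vN i)}

theorem u_mem (i : Fin 112) : vecN ι (uN i) ∈ lineSet ι i := ⟨1, 0, by simp⟩

theorem v_mem (i : Fin 112) : vecN ι (vN i) ∈ lineSet ι i := ⟨0, 1, by simp⟩

/-- A group element with its permutation of the lines. -/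
def LineCompat (ι : F) (g : SU 4 F 3) (p : Equiv.Perm (Fin 112)) : Prop :=
  ∀ i, ∀ x ∈ lineSet ι i, g • x ∈ lineSet ι (p i)

variable [Fintype F] (hF : Fintype.card F = 3 ^ 2) (hι : ι * ι = -1)

/-- The compatible pairs. -/
def lineCov (ι : F) : Subgroup (SU 4 F 3 × Equiv.Perm (Fin 112)) where
  carrier := {z | LineCompat ι z.1 z.2}
  one_mem' := fun i x hx => by
    show (1 : SU 4 F 3) • x ∈ lineSet ι i
    rwa [one_smul]
  mul_mem' := by
    intro z z' h h' i x hx
    show (z.1 * z'.1) • x ∈ lineSet ι (z.2 (z'.2 i))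
    rw [mul_smul]
    exact h _ _ (h' i x hx)
  inv_mem' := by
    intro z hz
    have hpow : ∀ n : ℕ, LineCompat ι (z ^ n).1 (z ^ n).2 := by
      intro n
      induction n with
      | zero => intro i x hx; show (1 : SU 4 F 3) • x ∈ lineSet ι i; rwa [one_smul]
      | succ n ih =>
        intro i x hx
        rw [pow_succ]
        show ((z ^ n).1 * z.1) • x ∈ lineSet ι ((z ^ n).2 (z.2 i))
        rw [mul_smul]
        exact ih _ _ (hz i x hx)
    have e : z⁻¹ = z ^ (orderOf z - 1) := inv_eq_of_mul_eq_one_right (by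
      rw [← pow_succ', Nat.sub_add_cancel (orderOf_pos z), pow_orderOf_eq_one])
    rw [e]
    exact hpow _

include hF hι

theorem herm_vecN (a b : ℕ) : herm 3 (vecN ι a) (vecN ι b) = val ι (hermN a b) :=
  herm_val hF hι (digit a) (digit b)

theorem eq_of_lines {i j : Fin 112} (hu : vecN ι (uN i) ∈ lineSet ι j)
    (hv : vecN ι (vN i) ∈ lineSet ι j) : i = j := by
  by_contra hne
  have hiso := isoB_true
  simp only [isoB, kallUpTo_iff, Bool.and_eq_true, Nat.beq_eq] at hiso
  obtain ⟨⟨⟨h1, h2⟩, h3⟩, h4⟩ := hiso j j.isLt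
  have z : ∀ x, x ∈ lineSet ι j → herm 3 x (vecN ι (uN j)) = 0 ∧ herm 3 x (vecN ι (vN j)) = 0 := by
    rintro x ⟨a, b, rfl⟩
    simp only [herm_add_left, herm_smul_left, herm_vecN hF hι, h1, h2, h3, h4, val_zero, mul_zero,
      add_zero, and_self]
  have hs := sepLineB_true
  simp only [sepLineB, kallUpTo_iff, Bool.or_eq_true, Bool.not_eq_true', ← Bool.not_eq_true,
    Nat.beq_eq] at hs
  have key : ∀ a b : ℕ, herm 3 (vecN ι a) (vecN ι b) = 0 → hermN a b = 0 := fun a b e => by
    rw [herm_vecN hF hι] at e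
    exact val_inj hF hι (by unfold hermN csum cadd; omega) (by norm_num) (e.trans val_zero.symm)
  rcases hs i i.isLt j j.isLt with (((e | e) | e) | e) | e
  · exact hne (Fin.ext e)
  · exact e (key _ _ (z _ hu).1)
  · exact e (key _ _ (z _ hu).2)
  · exact e (key _ _ (z _ hv).1)
  · exact e (key _ _ (z _ hv).2)

theorem lineCov_one {q : Equiv.Perm (Fin 112)}
    (h : ((1 : SU 4 F 3), q) ∈ lineCov ι) : q = 1 := by
  refine Equiv.ext fun i => ?_
  have h1 := h i _ (u_mem i)
  have h2 := h i _ (v_mem i)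
  simp only [one_smul] at h1 h2
  exact (eq_of_lines hF hι h1 h2).symm

theorem lineCov_unique {g : SU 4 F 3} {p p' : Equiv.Perm (Fin 112)}
    (h : (g, p) ∈ lineCov ι) (h' : (g, p') ∈ lineCov ι) : p = p' := by
  have := (lineCov ι).mul_mem ((lineCov ι).inv_mem h) h'
  rw [Prod.inv_mk, Prod.mk_mul_mk, inv_mul_cancel] at this
  exact inv_mul_eq_one.1 (lineCov_one hF hι this)

/-- The generators. -/
def GenSet (ι : F) : Set (SU 4 F 3) := {g | ∃ k < 5, IsGen ι k g}

theorem gen_lineCov {k : Fin 5} {g : SU 4 F 3} (hg : IsGen ι k g) :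
    (g, gp k) ∈ lineCov ι := by
  intro i x hx
  obtain ⟨a, b, rfl⟩ := hx
  have hl := lineB_true
  simp only [lineB, kallUpTo_iff, forceNat_eq, Bool.and_eq_true, Nat.beq_eq] at hl
  have key : ∀ n m : ℕ, ∀ s t : ℕ, (∀ r : Fin 4, csum (fun l => cmul (mEnt k r l) (digit n l)) =
      cadd (cmul s (digit (uN m) r)) (cmul t (digit (vN m) r))) →
      g • vecN ι n = val ι s • vecN ι (uN m) + val ι t • vecN ι (vN m) := by
    intro n m s t he
    funext r
    show (mat g *ᵥ vecN ι n) r = _
    rw [show mat g = matM ι k from hg]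
    have e := congrArg (val ι) (he r)
    simp only [val_csum hF hι, val_cmul hF hι, val_cadd hF] at e
    simpa [Matrix.mulVec, dotProduct, matM, vecN] using e
  have e1 := key (uN i) (lpN k i) (coefN k i 0) (coefN k i 1) fun r =>
    (hl k k.isLt i i.isLt r r.isLt).1
  have e2 := key (vN i) (lpN k i) (coefN k i 2) (coefN k i 3) fun r =>
    (hl k k.isLt i i.isLt r r.isLt).2
  refine ⟨a * val ι (coefN k i 0) + b * val ι (coefN k i 2),
    a * val ι (coefN k i 1) + b * val ι (coefN k i 3), ?_⟩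
  simp only [gp_apply]
  rw [smul_add, smul_comm g, smul_comm g, e1, e2]
  module

theorem gens_generate : Subgroup.closure (GenSet ι) = ⊤ := by
  set S := Subgroup.closure (GenSet ι) with hS
  have hgenS : ∀ {k : ℕ}, k < 5 → ∀ g, IsGen ι k g → g ∈ S := fun hk g hg =>
    Subgroup.subset_closure ⟨_, hk, hg⟩
  let GoodAt : (Fin 4 → F) → Prop := fun x =>
    ∀ (c : F) (hu : herm 3 x x = 0) (hc : c + c ^ 3 = 0), tv hF hu hc ∈ S
  have hsmul : ∀ {x : Fin 4 → F}, GoodAt x → ∀ {l : F}, l ≠ 0 → GoodAt (l • x) := by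
    intro x h l hl c hu hc
    have hx : herm 3 x x = 0 := by
      rw [herm_smul_self hF] at hu
      exact (mul_eq_zero.1 hu).resolve_left (pow_ne_zero _ hl)
    have h8 : l ^ 8 = 1 := by
      have := FiniteField.pow_card_sub_one_eq_one l hl
      rwa [hF] at this
    have hc' : c * l ^ 4 + (c * l ^ 4) ^ 3 = 0 := by
      linear_combination l ^ 4 * hc + c ^ 3 * l ^ 4 * h8
    have e : tv hF hu hc = tv hF hx hc' := by
      refine eq_of_smul_eq_SU fun y => ?_
      rw [tv_smul, tv_smul, herm_smul_right hF, smul_smul]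
      congr 2
      ring
    rw [e]
    exact h _ _ _
  have hmove : ∀ {x : Fin 4 → F}, GoodAt x → ∀ {g : SU 4 F 3}, g ∈ S → GoodAt (g • x) := by
    intro x h g hg c hu hc
    have hx : herm 3 x x = 0 := by rwa [herm_smul_SU] at hu
    have := conj_tv hF g hx hc
    rw [← this]
    exact mul_mem (mul_mem hg (h _ _ _)) (inv_mem hg)
  have hrep : ∀ n, n < 280 → GoodAt (vecN ι (repN n)) := by
    intro n
    induction n using Nat.strong_induction_on with
    | _ n ih =>
      intro hn
      have ht := treeB_true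
      simp only [treeB, kallUpTo_iff, forceNat_eq, Bool.or_eq_true, Bool.and_eq_true, Nat.beq_eq,
        Nat.blt_eq] at ht
      rcases ht n hn with rfl | ⟨⟨⟨⟨hp, hs⟩, hl⟩, hl9⟩, hv⟩
      · intro c hu hc
        obtain ⟨g, -, hgen, hsm⟩ := exists_lift_gen hF hι (k := 3) (by norm_num)
        obtain ⟨a, b, rfl⟩ := U43Mult50.exists_coords hF hι c
        have h3 := three_eq_zero hF
        have hi3 : ι ^ 3 = -ι := by linear_combination ι * hι
        have hch := charP_three hF
        have ha : (a : F) = 0 := by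
          have e : ((a : F) + (b : F) * ι) ^ 3 = (a : F) - (b : F) * ι := by
            rw [add_pow_char, mul_pow, natCast_cube hF, natCast_cube hF, hi3]; ring
          rw [e] at hc
          linear_combination (-1 : F) * hc + (a : F) * h3
        have hu4 : ∀ i : Fin 4, val ι (genU 3 (4 + i)) = (0 : F) := by
          have : ∀ i : Fin 4, genU 3 (4 + i) = 0 := by decide +kernel
          intro i; rw [this, val_zero]
        have hu0 : (fun i : Fin 4 => val ι (genU 3 i)) = vecN ι (repN 0) := by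
          have : ∀ i : Fin 4, genU 3 i = digit (repN 0) i := by decide +kernel
          funext i; rw [this]; rfl
        have hb8 : val ι (genU 3 8) = ι := by
          rw [show genU 3 8 = 3 by decide +kernel, val_three]
        have hι0 : ι + ι ^ 3 = 0 := by rw [hi3, add_neg_cancel]
        have eg : g = tv hF hu hι0 := by
          refine eq_of_smul_eq_SU fun x => ?_
          rw [hsm, tv_smul, hu0, hb8, show (fun i : Fin 4 => val ι (genU 3 (4 + i))) = 0 from
            funext hu4, herm_zero_right hF]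
          simp
        have e : tv hF hu hc = g ^ b := by
          refine eq_of_smul_eq_SU fun x => ?_
          rw [eg, SuMult50.tv_pow_smul hF, tv_smul, ha, zero_add]
        rw [e]
        exact pow_mem (hgenS (by norm_num) g hgen) b
      · obtain ⟨g, -, hgen, -⟩ := exists_lift_gen hF hι hs
        have hgood := hmove (ih _ hp (by omega)) (hgenS hs g hgen)
        have he : vecN ι (repN n) =
            val ι (infoN n / 4096) • (g • vecN ι (repN (infoN n % 512))) := by
          funext r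
          simp only [vecN, (hv r r.isLt), val_cmul hF hι, Pi.smul_apply, smul_eq_mul]
          congr 1
          rw [val_csum hF hι]
          simp only [val_cmul hF hι]
          show _ = (mat g *ᵥ _) r
          rw [show mat g = matM ι _ from hgen]
          rfl
        rw [he]
        refine hsmul hgood fun e0 => ?_
        have := val_inj hF hι hl9 (by norm_num) (e0.trans val_zero.symm)
        omega
  rw [eq_top_iff, ← tvGroup_empty hF (n := 4) (by norm_num), tvGroup, Subgroup.closure_le]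
  rintro _ ⟨u, c, hu, hc, -, rfl⟩
  by_cases hu0 : u = 0
  · subst hu0
    rw [show tv hF hu hc = 1 from eq_of_smul_eq_SU fun x => by simp [tv_smul]]
    exact one_mem _
  obtain ⟨v, hv, rfl⟩ := exists_vecN hF hι u
  have hcv := coverB_true
  simp only [coverB, kallUpTo_iff, forceNat_eq, Bool.or_eq_true, Bool.and_eq_true, Nat.beq_eq,
    Nat.blt_eq, Bool.not_eq_true', ← Bool.not_eq_true] at hcv
  rcases hcv v hv with (rfl | h0) | ⟨hn, hent⟩
  · exact absurd (funext fun i => by simp [vecN, digit, val_zero]) hu0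
  · refine absurd (val_inj hF hι (by unfold csum cadd; omega) (by norm_num) ?_) h0
    rw [← herm_val hF hι, val_zero]
    exact hu
  · have e : vecN ι v = val ι (idxN v % 16) • vecN ι (repN (idxN v / 16)) := by
      funext r
      simp only [vecN, hent r r.isLt, val_cmul hF hι, Pi.smul_apply, smul_eq_mul]
    refine (?_ : GoodAt (vecN ι v)) c hu hc
    rw [e]
    refine hsmul (hrep _ hn) fun e0 => hu0 ?_
    rw [e, e0, zero_smul]

theorem lineCov_surj (g : SU 4 F 3) : ∃ p, (g, p) ∈ lineCov ι := by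
  have h : Subgroup.closure (GenSet ι) ≤
      (lineCov ι).map (MonoidHom.fst (SU 4 F 3) (Equiv.Perm (Fin 112))) := by
    rw [Subgroup.closure_le]
    rintro g ⟨k, hk, hg⟩
    exact ⟨(g, gp ⟨k, hk⟩), gen_lineCov hF hι (k := ⟨k, hk⟩) hg, rfl⟩
  rw [gens_generate hF hι] at h
  obtain ⟨⟨g', p⟩, hp, rfl⟩ := h (Subgroup.mem_top g)
  exact ⟨p, hp⟩

/-- The permutation of an element. -/
noncomputable def lineFun (g : SU 4 F 3) : Equiv.Perm (Fin 112) := (lineCov_surj hF hι g).choose

theorem lineFun_mem (g : SU 4 F 3) : (g, lineFun hF hι g) ∈ lineCov ι :=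
  (lineCov_surj hF hι g).choose_spec

theorem lineFun_mul (g g' : SU 4 F 3) :
    lineFun hF hι (g * g') = lineFun hF hι g * lineFun hF hι g' := by
  have h1 := lineFun_mem hF hι (g * g')
  have h2 := (lineCov ι).mul_mem (lineFun_mem hF hι g) (lineFun_mem hF hι g')
  rw [Prod.mk_mul_mk] at h2
  exact lineCov_unique hF hι h1 h2

/-- The action on the lines. -/
noncomputable def lineHom : SU 4 F 3 →* Equiv.Perm (Fin 112) :=
  MonoidHom.mk' (lineFun hF hι) (lineFun_mul hF hι)

theorem lineHom_eq {g : SU 4 F 3} {p : Equiv.Perm (Fin 112)}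
    (h : (g, p) ∈ lineCov ι) : lineHom hF hι g = p :=
  lineCov_unique hF hι (lineFun_mem hF hι g) h

theorem range_lineHom : (lineHom hF hι).range = LineGroup := by
  rw [MonoidHom.range_eq_map, ← gens_generate hF hι, MonoidHom.map_closure, LineGroup]
  congr 1
  ext p
  constructor
  · rintro ⟨g, ⟨k, hk, hg⟩, rfl⟩
    exact ⟨⟨k, hk⟩, (lineHom_eq hF hι (gen_lineCov hF hι (k := ⟨k, hk⟩) hg)).symm⟩
  · rintro ⟨k, rfl⟩
    obtain ⟨g, hg, -⟩ := exists_gen hF hι k.isLt
    exact ⟨g, ⟨k, k.isLt, hg⟩, lineHom_eq hF hι (gen_lineCov hF hι hg)⟩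

omit hι in
/-- `PSU₄(3)` is the group of the lines. -/
theorem exists_lineEquiv : Nonempty (Cfsg.PSU 4 F 3 ≃* LineGroup) := by
  obtain ⟨ι, hι⟩ := exists_iota hF
  have hle : Subgroup.center (SU 4 F 3) ≤ (lineHom hF hι).ker := by
    intro z hz
    obtain ⟨r, hr⟩ := (mem_center_iff hF (n := 4) (by norm_num)).1 hz
    refine lineHom_eq hF hι fun i x hx => ?_
    obtain ⟨a, b, rfl⟩ := hx
    exact ⟨r * a, r * b, by rw [hr]; simp [smul_add, smul_smul]⟩
  let ψ : Cfsg.PSU 4 F 3 →* Equiv.Perm (Fin 112) := QuotientGroup.lift _ (lineHom hF hι) hle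
  have hr : ψ.range = LineGroup := by
    rw [← range_lineHom hF hι]
    ext p
    constructor
    · rintro ⟨x, rfl⟩
      obtain ⟨g, rfl⟩ := QuotientGroup.mk_surjective x
      exact ⟨g, rfl⟩
    · rintro ⟨g, rfl⟩
      exact ⟨g, rfl⟩
  have : IsSimpleGroup (Cfsg.PSU 4 F 3) := isSimpleGroup_PSU hF (by norm_num) (by norm_num)
  have hinj : Function.Injective ψ := by
    rw [← MonoidHom.ker_eq_bot_iff]
    rcases ψ.normal_ker.eq_bot_or_eq_top with h | h
    · exact h
    exfalso
    have hmem : gp 0 ∈ ψ.range := by rw [hr]; exact Subgroup.subset_closure ⟨0, rfl⟩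
    obtain ⟨x, hx⟩ := hmem
    have h1 : ψ x = 1 := MonoidHom.mem_ker.1 (h.symm ▸ Subgroup.mem_top x)
    have : ∃ i : Fin 112, gp 0 i ≠ i := by decide +kernel
    obtain ⟨i, hi⟩ := this
    exact hi (by rw [← hx, h1]; rfl)
  exact ⟨(MonoidHom.ofInjective hinj).trans (MulEquiv.subgroupCongr hr)⟩

end Cfsg.Agent.McLRec3
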