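import Cfsg.Agent.McLRec3.GroupChecks
import Cfsg.Agent.McLRec3.Lines

/-!
The group of the lines: its orbits and its subgroups of index 112.
-/

set_option autoImplicit false

namespace Cfsg.Agent.McLRec3

open Cfsg.Agent.ChevCore Cfsg.Agent.CosetEnum
open scoped Pointwise

local notation "R" => LineGroup

/-- A generator, totalised. -/
def gpN (k : ℕ) : Equiv.Perm (Fin 112) := if h : k < 5 then gp ⟨k, h⟩ else 1

theorem gp_mem (k : Fin 5) : gp k ∈ R := Subgroup.subset_closure ⟨k, rfl⟩

theorem gpN_mem (k : ℕ) : gpN k ∈ R := by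
  unfold gpN
  split_ifs with h
  · exact gp_mem _
  · exact one_mem _

theorem gpN_apply {k : ℕ} (hk : k < 5) (i : Fin 112) : ((gpN k i : Fin 112) : ℕ) = lpN k i := by
  rw [gpN, dif_pos hk]; rfl

/-- A word. -/
def wordP (w : List ℕ) : Equiv.Perm (Fin 112) := (w.map gpN).prod

theorem wordP_mem (w : List ℕ) : wordP w ∈ R :=
  Subgroup.list_prod_mem _ fun x hx => by
    obtain ⟨k, -, rfl⟩ := List.mem_map.1 hx
    exact gpN_mem k

theorem wordP_apply : ∀ {w : List ℕ}, (∀ k ∈ w, k < 5) → ∀ i : Fin 112,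
    ((wordP w i : Fin 112) : ℕ) = wN w i
  | [], _, i => rfl
  | k :: w, h, i => by
    show ((gpN k (wordP w i) : Fin 112) : ℕ) = lpN k (wN w i)
    rw [gpN_apply (h k List.mem_cons_self),
      wordP_apply (fun l hl => h l (List.mem_cons_of_mem _ hl)) i]

theorem words_lt {w : List ℕ} (h : w ∈ wordTab ∨ w ∈ pairWords) : ∀ k ∈ w, k < 5 := by
  have := wordsB_true
  simp only [wordsB, Bool.and_eq_true, List.all_eq_true, decide_eq_true_eq] at this
  rcases h with h | h
  · exact this.1.1.1 w h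
  · exact this.1.1.2 w h

theorem getD_mem_wordTab {j : ℕ} (hj : j < 7) : wordTab.getD j [] ∈ wordTab := by
  have := wordsB_true
  simp only [wordsB, Bool.and_eq_true, decide_eq_true_eq] at this
  rw [List.getD_eq_getElem _ _ (by omega)]
  exact List.getElem_mem _

/-- A tabled element. -/
def sR (j : ℕ) : R := ⟨wordP (wordTab.getD j []), wordP_mem _⟩

theorem sR_apply {j : ℕ} (hj : j < 7) (i : Fin 112) :
    (((sR j : Equiv.Perm (Fin 112)) i : Fin 112) : ℕ) = stN j i := by
  show ((wordP _ i : Fin 112) : ℕ) = _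
  rw [wordP_apply (words_lt (Or.inl (getD_mem_wordTab hj)))]
  have h := stB_true
  simp only [stB, kallUpTo_iff, Bool.and_eq_true, Nat.beq_eq] at h
  exact (h j hj).2 i i.isLt

theorem sR_zero {j : ℕ} (hj : j < 7) : sR j • (0 : Fin 112) = 0 := by
  refine Fin.ext ?_
  show (((sR j : Equiv.Perm (Fin 112)) 0 : Fin 112) : ℕ) = 0
  rw [sR_apply hj]
  have h := stB_true
  simp only [stB, kallUpTo_iff, Bool.and_eq_true, Nat.beq_eq] at h
  exact (h j hj).1

theorem smul_val (g : R) (i : Fin 112) : g • i = (g : Equiv.Perm (Fin 112)) i := rfl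

/-- Reachability from the roots of a forest. -/
def Reach (K : Subgroup R) (roots : List ℕ) (x : ℕ) : Prop :=
  ∃ r : Fin 112, (r : ℕ) ∈ roots ∧ ∃ g ∈ K, ((g • r : Fin 112) : ℕ) = x

theorem forest_sound {gen : ℕ → ℕ → ℕ} {ngen : ℕ} (K : Subgroup R) {roots : List ℕ}
    (hgen : ∀ k < ngen, ∃ g ∈ K, ∀ i : Fin 112, ((g • i : Fin 112) : ℕ) = gen k i) :
    ∀ (T seen out : List ℕ), (∀ x ∈ seen, Reach K roots x) →
      forest gen ngen T seen = some out → ∀ x ∈ out, Reach K roots x
  | [], seen, out, h, e => by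
    simp only [forest, Option.some.injEq] at e
    exact e ▸ h
  | t :: T, seen, out, h, e => by
    rw [forest] at e
    split_ifs at e with hc
    simp only [Bool.and_eq_true, List.contains_iff_mem, decide_eq_true_eq, beq_iff_eq] at hc
    obtain ⟨⟨hp, hk⟩, he⟩ := hc
    refine forest_sound K hgen T _ out (fun x hx => ?_) e
    rcases List.mem_cons.1 hx with rfl | hx
    · obtain ⟨r, hr, g, hg, hgr⟩ := h _ hp
      obtain ⟨g', hg', hg''⟩ := hgen _ hk
      refine ⟨r, hr, g' * g, mul_mem hg' hg, ?_⟩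
      rw [mul_smul, hg'', hgr, he]
    · exact h x hx

theorem forestB_sound {gen : ℕ → ℕ → ℕ} {ngen : ℕ} (K : Subgroup R) {T roots : List ℕ}
    (hgen : ∀ k < ngen, ∃ g ∈ K, ∀ i : Fin 112, ((g • i : Fin 112) : ℕ) = gen k i)
    (hroots : ∀ r ∈ roots, r < 112) (h : forestB gen ngen T roots = true) (i : Fin 112) :
    Reach K roots i := by
  rw [forestB] at h
  split at h
  · next seen e =>
    refine forest_sound K hgen T roots seen (fun x hx => ?_) e _ ?_
    · exact ⟨⟨x, hroots x hx⟩, hx, 1, K.one_mem, by rw [one_smul]⟩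
    · rw [List.all_eq_true] at h
      exact List.contains_iff_mem.1 (h i (List.mem_range.2 i.isLt))
  · exact absurd h (by simp)

theorem exists_smul_zero (i : Fin 112) : ∃ g : R, g • (0 : Fin 112) = i := by
  obtain ⟨r, hr, g, -, hg⟩ := forestB_sound (gen := lpN) (ngen := 5) ⊤
    (fun k hk => ⟨⟨gp ⟨k, hk⟩, gp_mem _⟩, Subgroup.mem_top _, fun _ => rfl⟩)
    (by simp) lForest_true i
  refine ⟨g, Fin.ext ?_⟩
  rw [← hg]
  congr 2
  exact Fin.ext (List.mem_singleton.1 hr).symm

instance transitive_lines : MulAction.IsPretransitive R (Fin 112) := ⟨fun x y => by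
  obtain ⟨g, hg⟩ := exists_smul_zero x
  obtain ⟨h, hh⟩ := exists_smul_zero y
  exact ⟨h * g⁻¹, by rw [← hg, mul_smul, inv_smul_smul, hh]⟩⟩

theorem la_invariant {g : Equiv.Perm (Fin 112)} (hg : g ∈ R) :
    ∀ i j : Fin 112, la (g i) (g j) = la i j := by
  induction hg using Subgroup.closure_induction with
  | mem g hg =>
    obtain ⟨k, rfl⟩ := hg
    intro i j
    have h := laInvB_true
    simp only [laInvB, kallUpTo_iff, forceNat_eq, beq_iff_eq] at h
    exact (h k k.isLt i i.isLt j j.isLt).symm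
  | one => intro i j; rfl
  | mul a b _ _ ha hb => intro i j; rw [Equiv.Perm.mul_apply, Equiv.Perm.mul_apply, ha, hb]
  | inv a _ ha =>
    intro i j
    conv_rhs => rw [← Equiv.apply_symm_apply a i, ← Equiv.apply_symm_apply a j, ha]
    rfl

/-- The stabiliser of the first line. -/
abbrev Stab0 : Subgroup R := MulAction.stabilizer R (0 : Fin 112)

theorem stab_orbits (i : Fin 112) (hi : i ≠ 0) :
    ∃ g ∈ Stab0, ((g • (⟨if la 0 i then rootTab.getD 1 0 % 112 else rootTab.getD 3 0 % 112,
      by split_ifs <;> exact Nat.mod_lt _ (by norm_num)⟩ : Fin 112) : Fin 112) : ℕ) = i := by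
  have hr : rootTab.getD 1 0 < 112 ∧ rootTab.getD 3 0 < 112 ∧ la 0 (rootTab.getD 1 0) = true ∧
      la 0 (rootTab.getD 3 0) = false := by decide +kernel
  obtain ⟨r, hmem, g, hg, hgr⟩ := forestB_sound (gen := stN) (ngen := 7) Stab0
    (fun k hk => ⟨sR k, sR_zero hk, fun j => sR_apply hk j⟩)
    (by decide +kernel) sForest_true i
  refine ⟨g, hg, ?_⟩
  have hla : la 0 i = la 0 r := by
    have h1 := la_invariant g.2 0 r
    have h0 : (g : Equiv.Perm (Fin 112)) 0 = 0 := hg
    rw [h0] at h1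
    rw [← hgr]
    exact h1
  refine Eq.trans ?_ hgr
  congr 2
  refine Fin.ext ?_
  simp only [List.mem_cons, List.not_mem_nil, or_false] at hmem
  rcases hmem with e | e | e
  · exfalso
    apply hi
    have hr0 : r = 0 := Fin.ext e
    subst hr0
    refine Fin.ext ?_
    rw [← hgr, show g • (0 : Fin 112) = 0 from hg]
  · simp only [hla, e, hr.2.2.1, if_true, Nat.mod_eq_of_lt hr.1]
  · simp only [hla, e, hr.2.2.2, Bool.false_eq_true, if_false, Nat.mod_eq_of_lt hr.2.1]

/-! ### A 3-subgroup fixing a line -/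

/-- The first part. -/
def A3 : Subgroup R := Subgroup.closure {x | ∃ j < 4, x = sR j}

/-- The second part. -/
def B3 : Subgroup R := Subgroup.closure {x | ∃ j, 4 ≤ j ∧ j < 6 ∧ x = sR j}

theorem sR_ext {x y : R} (h : ∀ i : Fin 112,
    (((x : Equiv.Perm (Fin 112)) i : Fin 112) : ℕ) = ((y : Equiv.Perm (Fin 112)) i : Fin 112)) :
    x = y := Subtype.ext (Equiv.ext fun i => Fin.ext (h i))

theorem rel_facts (i : ℕ) (hi : i < 112) :
    (∀ j < 6, stN j (stN j (stN j i)) = i) ∧
    (∀ a < 4, ∀ b < 4, stN a (stN b i) = stN b (stN a i)) ∧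
    stN 4 (stN 5 i) = stN 5 (stN 4 i) ∧
    ∀ u < 2, ∀ a < 4, stN (4 + u) (stN a i) =
        iterN (stN 0) (((conjTab.getD u []).getD a []).getD 0 0)
          (iterN (stN 1) (((conjTab.getD u []).getD a []).getD 1 0)
            (iterN (stN 2) (((conjTab.getD u []).getD a []).getD 2 0)
              (iterN (stN 3) (((conjTab.getD u []).getD a []).getD 3 0) (stN (4 + u) i)))) := by
  have h := relB_true
  simp only [relB, kallUpTo_iff, Bool.and_eq_true, Nat.beq_eq] at h
  obtain ⟨⟨⟨h1, h2⟩, h3⟩, h4⟩ := h i hi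
  exact ⟨h1, h2, h3, h4⟩

theorem sR_cube {j : ℕ} (hj : j < 6) : sR j ^ 3 = 1 := sR_ext fun i => by
  have h7 : j < 7 := by omega
  show (((sR j : Equiv.Perm (Fin 112)) ^ 3) i : ℕ) = (i : ℕ)
  rw [pow_succ, pow_two, Equiv.Perm.mul_apply, Equiv.Perm.mul_apply, sR_apply h7, sR_apply h7,
    sR_apply h7]
  exact (rel_facts i i.isLt).1 j hj

theorem comm_pgroup {S : Set R} (hcomm : ∀ x ∈ S, ∀ y ∈ S, x * y = y * x)
    (h3 : ∀ x ∈ S, x ^ 3 = 1) : IsPGroup 3 (Subgroup.closure S) := by
  have h1 : Subgroup.closure S ≤ Subgroup.centralizer S := by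
    rw [Subgroup.closure_le]
    exact fun x hx => Subgroup.mem_centralizer_iff.2 fun y hy => hcomm y hy x hx
  have h2 : Subgroup.closure S ≤ Subgroup.centralizer (Subgroup.closure S : Set R) := by
    rw [Subgroup.closure_le]
    exact fun x hx => Subgroup.mem_centralizer_iff.2 fun y hy =>
      ((Subgroup.mem_centralizer_iff.1 (h1 hy)) x hx).symm
  rintro ⟨x, hx⟩
  refine ⟨1, Subtype.ext ?_⟩
  show x ^ 3 ^ 1 = 1
  rw [pow_one]
  induction hx using Subgroup.closure_induction with
  | mem g hg => exact h3 g hg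
  | one => exact one_pow _
  | mul a b ha hb iha ihb =>
    rw [Commute.mul_pow (show Commute a b from (Subgroup.mem_centralizer_iff.1 (h2 hb)) a ha),
      iha, ihb, one_mul]
  | inv a _ iha => rw [inv_pow, iha, inv_one]

theorem A3_pgroup : IsPGroup 3 A3 := comm_pgroup
  (by
    rintro _ ⟨a, ha, rfl⟩ _ ⟨b, hb, rfl⟩
    refine sR_ext fun i => ?_
    show (((sR a : Equiv.Perm (Fin 112)) ((sR b : Equiv.Perm (Fin 112)) i) : Fin 112) : ℕ) =
      (((sR b : Equiv.Perm (Fin 112)) ((sR a : Equiv.Perm (Fin 112)) i) : Fin 112) : ℕ)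
    simp only [sR_apply (show a < 7 by omega), sR_apply (show b < 7 by omega)]
    exact (rel_facts i i.isLt).2.1 a ha b hb)
  (by rintro _ ⟨a, ha, rfl⟩; exact sR_cube (by omega))

theorem B3_pgroup : IsPGroup 3 B3 := comm_pgroup
  (by
    rintro _ ⟨a, ha, ha', rfl⟩ _ ⟨b, hb, hb', rfl⟩
    refine sR_ext fun i => ?_
    show (((sR a : Equiv.Perm (Fin 112)) ((sR b : Equiv.Perm (Fin 112)) i) : Fin 112) : ℕ) =
      (((sR b : Equiv.Perm (Fin 112)) ((sR a : Equiv.Perm (Fin 112)) i) : Fin 112) : ℕ)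
    simp only [sR_apply (show a < 7 by omega), sR_apply (show b < 7 by omega)]
    have := (rel_facts i i.isLt).2.2.1
    interval_cases a <;> interval_cases b <;> first | rfl | exact this | exact this.symm)
  (by rintro _ ⟨a, ha, ha', rfl⟩; exact sR_cube ha')

theorem iter_val {j : ℕ} (hj : j < 7) : ∀ (n : ℕ) (i : Fin 112),
    ((((sR j : Equiv.Perm (Fin 112)) ^ n) i : Fin 112) : ℕ) = iterN (stN j) n i
  | 0, _ => rfl
  | n + 1, i => by
    rw [pow_succ', Equiv.Perm.mul_apply, sR_apply hj, iter_val hj n i]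
    rfl

theorem B3_le_normalizer : B3 ≤ Subgroup.normalizer (A3 : Set R) := by
  rw [B3, Subgroup.closure_le]
  rintro _ ⟨u, hu, hu', rfl⟩
  rw [SetLike.mem_coe, Subgroup.mem_normalizer_iff_map_conj_eq]
  apply Subgroup.eq_of_le_of_card_ge
  · rw [A3, MonoidHom.map_closure, Subgroup.closure_le]
    rintro _ ⟨_, ⟨a, ha, rfl⟩, rfl⟩
    set e := (conjTab.getD (u - 4) []).getD a []
    have key : sR u * sR a * (sR u)⁻¹ = sR 0 ^ e.getD 0 0 * (sR 1 ^ e.getD 1 0 *
        (sR 2 ^ e.getD 2 0 * sR 3 ^ e.getD 3 0)) := by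
      rw [mul_inv_eq_iff_eq_mul]
      refine sR_ext fun i => ?_
      simp only [Subgroup.coe_mul, SubmonoidClass.coe_pow, Equiv.Perm.mul_apply,
        sR_apply (show u < 7 by omega), sR_apply (show a < 7 by omega),
        iter_val (show (0 : ℕ) < 7 by norm_num), iter_val (show (1 : ℕ) < 7 by norm_num),
        iter_val (show (2 : ℕ) < 7 by norm_num), iter_val (show (3 : ℕ) < 7 by norm_num)]
      have := (rel_facts i i.isLt).2.2.2 (u - 4) (by omega) a ha
      rwa [show 4 + (u - 4) = u by omega] at this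
    show (MulAut.conj (sR u)) (sR a) ∈ A3
    rw [MulAut.conj_apply, key]
    have hm : ∀ b < 4, ∀ n : ℕ, sR b ^ n ∈ A3 := fun b hb n =>
      pow_mem (Subgroup.subset_closure (show sR b ∈ {x | ∃ j < 4, x = sR j} from ⟨b, hb, rfl⟩)) n
    exact mul_mem (hm 0 (by norm_num) _) (mul_mem (hm 1 (by norm_num) _)
      (mul_mem (hm 2 (by norm_num) _) (hm 3 (by norm_num) _)))
  · rw [Subgroup.card_map_of_injective (MulAut.conj (sR u)).injective]

/-- The 3-subgroup. -/
def U3 : Subgroup R := B3 ⊔ A3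

theorem U3_pgroup : IsPGroup 3 U3 :=
  B3_pgroup.to_sup_of_normal_right' A3_pgroup B3_le_normalizer

theorem sR_mem_U3 {j : ℕ} (hj : j < 6) : sR j ∈ U3 := by
  rcases lt_or_ge j 4 with h | h
  · exact Subgroup.mem_sup_right
      (Subgroup.subset_closure (show sR j ∈ {x | ∃ l < 4, x = sR l} from ⟨j, h, rfl⟩))
  · exact Subgroup.mem_sup_left (Subgroup.subset_closure
      (show sR j ∈ {x | ∃ l, 4 ≤ l ∧ l < 6 ∧ x = sR l} from ⟨j, h, hj, rfl⟩))

/-! ### Subgroups of index 112 -/

/-- The class of a line. -/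
def cls (i : Fin 112) : Fin 4 := ⟨clsN i, Nat.mod_lt _ (by norm_num)⟩

theorem cls_invariant {g : R} (hg : g ∈ U3) (i : Fin 112) : cls (g • i) = cls i := by
  have hgen : ∀ j < 6, ∀ i, cls (sR j • i) = cls i := fun j hj i => Fin.ext (by
    show clsN ((sR j : Equiv.Perm (Fin 112)) i) = clsN i
    rw [sR_apply (show j < 7 by omega)]
    have h := clsB_true
    simp only [clsB, kallUpTo_iff, Nat.beq_eq] at h
    exact h j hj i i.isLt)
  let K : Subgroup R :=
    { carrier := {g | ∀ i, cls (g • i) = cls i}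
      one_mem' := fun i => by rw [one_smul]
      mul_mem' := fun {a b} ha hb i => by rw [mul_smul, ha, hb]
      inv_mem' := fun {a} ha i => by conv_rhs => rw [← smul_inv_smul a i, ha] }
  refine (sup_le ?_ ?_ : U3 ≤ K) hg i
  · rw [B3, Subgroup.closure_le]; rintro _ ⟨j, hj, hj', rfl⟩; exact hgen j hj'
  · rw [A3, Subgroup.closure_le]; rintro _ ⟨j, hj, rfl⟩; exact hgen j (by omega)

theorem same_class {i j : Fin 112} (h : cls i = cls j) : ∃ g ∈ U3, g • i = j := by
  have hF := fun x : Fin 112 => forestB_sound (gen := stN) (ngen := 6) U3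
    (fun k hk => ⟨sR k, sR_mem_U3 hk, fun y => sR_apply (show k < 7 by omega) y⟩)
    (by decide +kernel) uForest_true x
  obtain ⟨r, hr, g, hg, hgr⟩ := hF i
  obtain ⟨r', hr', g', hg', hgr'⟩ := hF j
  have e1 : g • r = i := Fin.ext hgr
  have e2 : g' • r' = j := Fin.ext hgr'
  have hc : cls r = cls r' := by
    rw [← cls_invariant hg r, e1, h, ← e2, cls_invariant hg' r']
  have key : ∀ r r' : Fin 112, (r : ℕ) ∈ rootTab → (r' : ℕ) ∈ rootTab → cls r = cls r' → r = r' := by
    intro r r' hr hr' hc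
    have hd : ∀ a ∈ rootTab, ∀ b ∈ rootTab, clsN a = clsN b → a = b := by decide +kernel
    exact Fin.ext (hd _ hr _ hr' (congrArg Fin.val hc))
  obtain rfl := key r r' hr hr' hc
  exact ⟨g' * g⁻¹, mul_mem hg' (inv_mem hg), by rw [← e1, mul_smul, inv_smul_smul, e2]⟩

theorem card_classes (χ : Fin 4 → Bool) :
    (Finset.univ.filter fun i : Fin 112 => χ (cls i) = true).card =
      (if χ 0 then 1 else 0) + (if χ 1 then 3 else 0) + (if χ 2 then 27 else 0) +
        (if χ 3 then 81 else 0) := by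
  revert χ
  decide +kernel

/-- The lines of a clique. -/
def clq (k : ℕ) : Finset (Fin 112) :=
  Finset.univ.filter fun i => ∃ j : Fin 4, clN k j = (i : ℕ)

theorem mem_clq {k : ℕ} {i : Fin 112} : i ∈ clq k ↔ ∃ j < 4, clN k j = (i : ℕ) := by
  simp only [clq, Finset.mem_filter, Finset.mem_univ, true_and]
  exact ⟨fun ⟨j, hj⟩ => ⟨j, j.isLt, hj⟩, fun ⟨j, hj, e⟩ => ⟨⟨j, hj⟩, e⟩⟩

theorem clN_lt {k j : ℕ} (hk : k < 280) (hj : j < 4) : clN k j < 112 := by
  have h := cliqueB_true
  simp only [cliqueB, kallUpTo_iff, forceNat_eq, Bool.and_eq_true, Nat.blt_eq] at h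
  exact (h k hk j hj).1

theorem clq_edge {e : ℕ} (he : e ∈ qTree) (hp : e / 8 % 512 < 280) (hk : e % 8 < 5) :
    (clq (e / 8 % 512)).image (gp ⟨e % 8, hk⟩) = clq (e / 4096) := by
  have h := qEdgeB_true
  simp only [qEdgeB, kall_iff, same4, Bool.and_eq_true, kallUpTo_iff, kanyUpTo_iff, Nat.beq_eq] at h
  obtain ⟨h1, h2⟩ := h e he
  ext i
  rw [Finset.mem_image]
  constructor
  · rintro ⟨x, hx, rfl⟩
    obtain ⟨j, hj, e1⟩ := mem_clq.1 hx
    obtain ⟨l, hl, e2⟩ := h1 j hj
    exact mem_clq.2 ⟨l, hl, by rw [← e2, e1]; rfl⟩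
  · intro hi
    obtain ⟨j, hj, e1⟩ := mem_clq.1 hi
    obtain ⟨l, hl, e2⟩ := h2 j hj
    refine ⟨⟨clN (e / 8 % 512) l, clN_lt hp hl⟩, mem_clq.2 ⟨l, hl, rfl⟩, Fin.ext ?_⟩
    show lpN (e % 8) (clN (e / 8 % 512) l) = (i : ℕ)
    rw [← e1, e2]

theorem clq_reach {k : ℕ} (hk : k < 280) : ∃ g : R, (clq kQ).image (g • ·) = clq k := by
  have key : ∀ (T seen out : List ℕ), (∀ e ∈ T, e ∈ qTree) →
      (∀ x ∈ seen, ∃ g : R, (clq kQ).image (g • ·) = clq x) → qForest T seen = some out →
      ∀ x ∈ out, ∃ g : R, (clq kQ).image (g • ·) = clq x := by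
    intro T
    induction T with
    | nil =>
      intro seen out _ h e
      simp only [qForest, Option.some.injEq] at e
      exact e ▸ h
    | cons t T ih =>
      intro seen out hT h e
      rw [qForest] at e
      split_ifs at e with hc
      simp only [Bool.and_eq_true, List.contains_iff_mem, decide_eq_true_eq] at hc
      refine ih _ out (fun x hx => hT x (List.mem_cons_of_mem _ hx)) (fun x hx => ?_) e
      rcases List.mem_cons.1 hx with rfl | hx
      · obtain ⟨g, hg⟩ := h _ hc.1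
        have hp : t / 8 % 512 < 280 := by
          have hall : ∀ e ∈ qTree, e / 8 % 512 < 280 := by decide +kernel
          exact hall t (hT t List.mem_cons_self)
        refine ⟨⟨gp ⟨t % 8, hc.2⟩, gp_mem _⟩ * g, ?_⟩
        rw [← clq_edge (hT t List.mem_cons_self) hp hc.2, ← hg, Finset.image_image]
        rfl
      · exact h x hx
  have hc := qCover_true
  split at hc
  · next seen e =>
    refine key qTree [kQ] seen (fun e he => he) (fun x hx => ?_) e k
      (List.contains_iff_mem.1 (List.all_eq_true.1 hc k (List.mem_range.2 hk)))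
    rw [List.mem_singleton] at hx
    subst hx
    exact ⟨1, by simp⟩
  · exact absurd hc (by simp)

theorem clq_injective : Function.Injective fun k : Fin 113 => clq k := by
  intro k l h
  by_contra hne
  have hq := qInjB_true
  simp only [qInjB, kallUpTo_iff, kanyUpTo_iff, Bool.or_eq_true, Nat.beq_eq, Bool.not_eq_true',
    ← Bool.not_eq_true] at hq
  obtain ⟨j, hj, hn⟩ := (hq k k.isLt l l.isLt).resolve_left fun e => hne (Fin.ext e)
  have hm : (⟨clN k j, clN_lt (by omega) hj⟩ : Fin 112) ∈ clq k := mem_clq.2 ⟨j, hj, rfl⟩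
  rw [show clq k = clq l from h] at hm
  obtain ⟨j', hj', e'⟩ := mem_clq.1 hm
  exact hn j' hj' e'.symm

/-- The stabiliser of the base clique. -/
def qStab : Subgroup R where
  carrier := {g | (clq kQ).image (g • ·) = clq kQ}
  one_mem' := by simp
  mul_mem' := fun {a b} (ha : _ = _) (hb : _ = _) => by
    show _ = _
    conv_rhs => rw [← ha, ← hb, Finset.image_image]
    simp only [Function.comp_def, mul_smul]
  inv_mem' := fun {a} (ha : _ = _) => by
    show _ = _
    conv_lhs => rw [← ha, Finset.image_image]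
    simp [Function.comp_def]

theorem mem_qStab {g : R} : g ∈ qStab ↔ (clq kQ).image (g • ·) = clq kQ := Iff.rfl

theorem qStab_index : 113 ≤ qStab.index := by
  choose g hg using fun k : Fin 113 => clq_reach (k := (k : ℕ)) (by omega)
  have hf : Function.Injective fun k : Fin 113 => (QuotientGroup.mk (g k) : R ⧸ qStab) := by
    intro k l e
    have e' := mem_qStab.1 (QuotientGroup.eq.1 e)
    refine clq_injective ?_
    show clq k = clq l
    rw [← hg k, ← hg l]
    conv_lhs => rw [← e', Finset.image_image]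
    simp [Function.comp_def, mul_smul]
  have h := Nat.card_le_card_of_injective _ hf
  rwa [Nat.card_eq_fintype_card (α := Fin 113), Fintype.card_fin, ← Subgroup.index_eq_card] at h

/-- A subgroup of index 112 is the stabiliser of a line. -/
theorem eq_stabilizer_of_index (hR : Nat.card R = 3265920) {M : Subgroup R} (hM : M.index = 112) :
    ∃ i : Fin 112, M = MulAction.stabilizer R i := by
  classical
  haveI : Fact (Nat.Prime 3) := ⟨Nat.prime_three⟩
  have hMc : Nat.card M = 29160 := by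
    have := M.card_mul_index
    rw [hM, hR] at this
    omega
  obtain ⟨Q⟩ := (inferInstance : Nonempty (Sylow 3 M))
  have hQc : Nat.card (Q : Subgroup M) = 3 ^ 6 := by
    rw [Q.card_eq_multiplicity, hMc,
      show (29160 : ℕ) = 40 * 3 ^ 6 by norm_num, Nat.factorization_mul (by norm_num) (by norm_num),
      Finsupp.add_apply, Nat.factorization_eq_zero_of_not_dvd (by norm_num),
      Nat.Prime.factorization_pow Nat.prime_three, Finsupp.single_eq_same, zero_add]
  have hR3 : (Nat.card R).factorization 3 = 6 := by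
    rw [hR, show (3265920 : ℕ) = 4480 * 3 ^ 6 by norm_num,
      Nat.factorization_mul (by norm_num) (by norm_num), Finsupp.add_apply,
      Nat.factorization_eq_zero_of_not_dvd (by norm_num),
      Nat.Prime.factorization_pow Nat.prime_three, Finsupp.single_eq_same, zero_add]
  let P : Sylow 3 R := Sylow.ofCard ((Q : Subgroup M).map M.subtype) (by
    rw [Subgroup.card_map_of_injective M.subtype_injective, hQc, hR3])
  have hPM : (P : Subgroup R) ≤ M := Subgroup.map_subtype_le _
  obtain ⟨P', hP'⟩ := U3_pgroup.exists_le_sylow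
  obtain ⟨g, hg⟩ := MulAction.exists_smul_eq R P P'
  set M' : Subgroup R := M.map (MulAut.conj g).toMonoidHom with hM'
  have hUM : U3 ≤ M' := by
    refine hP'.trans ?_
    rw [← hg, Sylow.coe_subgroup_smul, hM']
    intro x hx
    rw [Subgroup.mem_pointwise_smul_iff_inv_smul_mem] at hx
    refine ⟨_, hPM hx, ?_⟩
    simp [MulAut.smul_def, mul_assoc]
  have hM'c : Nat.card M' = 29160 := by
    rw [hM', Subgroup.card_map_of_injective (MulAut.conj g).injective, hMc]
  have hM'i : M'.index = 112 := by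
    have := M'.card_mul_index
    rw [hM'c, hR] at this
    omega
  have hsuff : M' = Stab0 → ∃ i : Fin 112, M = MulAction.stabilizer R i := by
    intro e
    refine ⟨g⁻¹ • (0 : Fin 112), ?_⟩
    ext x
    have hx : x ∈ M ↔ g * x * g⁻¹ ∈ M' :=
      ⟨fun h => ⟨x, h, rfl⟩, by
        rintro ⟨y, hy, e'⟩
        have : y = x := by simpa using e'
        rwa [← this]⟩
    rw [hx, e, MulAction.mem_stabilizer_iff, MulAction.mem_stabilizer_iff, mul_smul, mul_smul,
      smul_eq_iff_eq_inv_smul g]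
  set O : Set (Fin 112) := MulAction.orbit M' (0 : Fin 112) with hO
  let χ : Fin 4 → Bool := fun t => decide (∃ i ∈ O, cls i = t)
  have hmem : ∀ i, i ∈ O ↔ χ (cls i) = true := by
    intro i
    simp only [χ, decide_eq_true_eq]
    refine ⟨fun h => ⟨i, h, rfl⟩, ?_⟩
    rintro ⟨j, hj, e⟩
    obtain ⟨u, hu, huji⟩ := same_class e
    rw [← huji]
    exact MulAction.mem_orbit_of_mem_orbit (⟨u, hUM hu⟩ : M') hj
  have hcard : Nat.card O = (if χ 0 then 1 else 0) + (if χ 1 then 3 else 0) +
      (if χ 2 then 27 else 0) + (if χ 3 then 81 else 0) := by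
    rw [← card_classes χ, Nat.card_coe_set_eq, ← Set.ncard_coe_finset]
    congr 1
    ext i
    simp [hmem]
  have hdvd : Nat.card O ∣ 29160 := by
    rw [← hM'c, Nat.card_coe_set_eq, hO, ← MulAction.index_stabilizer]
    exact Subgroup.index_dvd_card _
  have hcls0 : cls 0 = 0 := by decide +kernel
  have h0 : χ 0 = true := by
    rw [← hcls0]
    exact (hmem 0).1 (MulAction.mem_orbit_self _)
  rw [hcard, h0] at hdvd
  cases h2 : χ 2 <;> cases h3 : χ 3 <;> cases h1 : χ 1 <;>
    simp [h1, h2, h3] at hdvd hcard <;> try omega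
  · refine hsuff (Subgroup.eq_of_le_of_card_ge (fun m hm => ?_) ?_)
    · have : m • (0 : Fin 112) ∈ O := ⟨⟨m, hm⟩, rfl⟩
      have hc := (hmem _).1 this
      have key : ∀ i : Fin 112, cls i = 0 → i = 0 := by decide +kernel
      refine key _ ?_
      generalize cls (m • (0 : Fin 112)) = t at hc
      fin_cases t <;> simp_all
    · have := Stab0.card_mul_index
      rw [MulAction.index_stabilizer, MulAction.orbit_eq_univ, Set.ncard_univ, Nat.card_eq_fintype_card
        (α := Fin 112), Fintype.card_fin, hR] at this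
      omega
  · exfalso
    have hOQ : ∀ i, i ∈ O ↔ i ∈ clq kQ := by
      intro i
      rw [hmem]
      have hb := baseCliqueB_true
      simp only [baseCliqueB, kallUpTo_iff, beq_iff_eq] at hb
      have hb' := hb i i.isLt
      rw [mem_clq, show (∃ j < 4, clN kQ j = (i : ℕ)) ↔ clsN i ≤ 1 by
        rw [← Nat.ble_eq, hb', kanyUpTo_iff]; simp [Nat.beq_eq]]
      rw [show clsN i = (cls i : ℕ) from rfl]
      generalize cls i = t
      fin_cases t <;> simp [h0, h1, h2, h3]
    have hle : M' ≤ qStab := by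
      intro m hm
      rw [mem_qStab]
      refine Finset.eq_of_subset_of_card_le (fun x hx => ?_) ?_
      · obtain ⟨y, hy, rfl⟩ := Finset.mem_image.1 hx
        exact (hOQ _).1 (MulAction.mem_orbit_of_mem_orbit (⟨m, hm⟩ : M') ((hOQ y).2 hy))
      · rw [Finset.card_image_of_injective _ (MulAction.injective m)]
    have hTi : qStab.index ≤ 112 := by
      have hd := Subgroup.index_dvd_of_le hle
      rw [hM'i] at hd
      exact Nat.le_of_dvd (Nat.succ_pos 111) hd
    exact absurd qStab_index (by omega)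

end Cfsg.Agent.McLRec3
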