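import Cfsg.Agent.McLRec3.Checked

/-!
Small checks for the group of the lines.
-/

set_option autoImplicit false

namespace Cfsg.Agent.McLRec3

open Cfsg.Agent.ChevCore

/-- The words use five letters. -/
def wordsB : Bool :=
  wordTab.all (fun w => w.all fun k => decide (k < 5)) &&
    pairWords.all (fun w => w.all fun k => decide (k < 5)) && decide (wordTab.length = 7) &&
    decide (pairWords.length = 6)

/-- The first cliques differ. -/
noncomputable def qInjB : Bool :=
  kallUpTo 113 fun k => kallUpTo 113 fun l => Nat.beq k l ||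
    kanyUpTo 4 fun j => kallUpTo 4 fun j' => !Nat.beq (clN k j) (clN l j')

theorem wordsB_true : wordsB = true := by decide +kernel
theorem qInjB_true : qInjB = true := by decide +kernel
theorem roots_cls : clsN (rootTab.getD 0 0) = 0 ∧ clsN (rootTab.getD 1 0) = 1 ∧
    clsN (rootTab.getD 2 0) = 2 ∧ clsN (rootTab.getD 3 0) = 3 ∧ rootTab.getD 0 0 = 0 ∧
    rootTab.length = 4 ∧ clN kQ 0 = 0 := by decide +kernel

end Cfsg.Agent.McLRec3
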