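import Cfsg.Agent.McLRec3.ModelChecks
import Cfsg.Agent.McLRec3.Checked
import Cfsg.Agent.LeechUnitary.Sound
import Cfsg.Agent.SporStruct.LeechMcLMain
import Cfsg.Agent.SporStruct.OuterMcL

/-!
McL on the 275 vectors, and a bound on the automorphisms of the graph.
-/

set_option autoImplicit false

namespace Cfsg.Agent.McLRec3

open Cfsg Cfsg.Agent.Leech Cfsg.Agent.SporStruct CoMatrix Cfsg.Agent.ChevCore Cfsg.Agent.CosetEnum
open Cfsg.Agent.LeechUnitary (lat coe_lat fixedV vecP_combR_mem)
open Cfsg.Agent.Golay (pt idx idx_lt pt_idx idx_pt)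

/-- A vertex as a lattice vector. -/
noncomputable def vecX (i : Fin 275) : leechLattice := lat (vlN i)

theorem length_vlN (i : ℕ) : (vlN i).length = 24 := by simp [vlN]

theorem vec_facts (i : Fin 275) : inLB (vlN i) = true ∧ dotL (vlN i) (vlN i) = 32 ∧
    dotL (vlN i) uL = 24 ∧ dotL (vlN i) vL = 16 := by
  have h := vecB_true
  simp only [vecB, kallUpTo_iff, Bool.and_eq_true, beq_iff_eq] at h
  obtain ⟨⟨⟨h1, h2⟩, h3⟩, h4⟩ := h i i.isLt
  exact ⟨h1, h2, h3, h4⟩

theorem dotInt_lists (x y : GolayPt → ℤ) : dotInt x y = dotL (vecL x) (vecL y) := by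
  rw [dotL, vecL, vecL, List.zipWith_map, List.zipWith_self, CoMatrix.sum_range_eq, dotInt_sum]
  simp only [pt_idx]

theorem vecL_vecX (i : Fin 275) : vecL ((vecX i : leechLattice) : GolayPt → ℤ) = vlN i :=
  LeechUnitary.vecL_lat (length_vlN i) (vec_facts i).1

theorem vecL_fixed : vecL ((std48 : leechLattice) : GolayPt → ℤ) = uL ∧
    vecL ((std32 : leechLattice) : GolayPt → ℤ) = vL := by
  constructor
  · refine List.ext_getElem (by simp [vecL, uL]) fun i h1 _ => ?_
    have hi : i < 24 := by simpa [vecL] using h1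
    simp only [vecL, uL, List.getElem_map, List.getElem_range, coe_std48]
    revert i
    decide +kernel
  · refine List.ext_getElem (by simp [vecL, vL]) fun i h1 _ => ?_
    have hi : i < 24 := by simpa [vecL] using h1
    simp only [vecL, vL, List.getElem_map, List.getElem_range]
    show Spor.vecU (pt i) = _
    revert i
    decide +kernel

theorem dot_uv : sqNorm (std48 : GolayPt → ℤ) = 48 ∧ sqNorm (std32 : GolayPt → ℤ) = 32 ∧
    dotInt (std48 : GolayPt → ℤ) (std32 : GolayPt → ℤ) = 24 := by
  rw [← dotInt_self, ← dotInt_self, dotInt_lists, dotInt_lists, dotInt_lists, vecL_fixed.1,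
    vecL_fixed.2]
  decide +kernel

theorem vecX_mem (i : Fin 275) : vecX i ∈ mcConfig std48 std32 := by
  rw [mem_mcConfig_iff dot_uv.1, ← dotInt_self, dotInt_lists, dotInt_lists, dotInt_lists,
    vecL_vecX, vecL_fixed.1, vecL_fixed.2]
  exact ⟨(vec_facts i).2.1, (vec_facts i).2.2.1, (vec_facts i).2.2.2⟩

theorem pkN_lane : ∀ (n : ℕ) (f : ℕ → ℕ), (∀ i < n, f i < 65536) →
    ∀ j < n, (pkN n f >>> (16 * j)) % 65536 = f j
  | 0, _, _, j, hj => absurd hj (by omega)
  | n + 1, f, hf, 0, _ => by
    have := hf 0 (by omega)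
    simp only [pkN, Nat.mul_zero, Nat.shiftRight_zero]
    omega
  | n + 1, f, hf, j + 1, hj => by
    have := hf 0 (by omega)
    rw [show 16 * (j + 1) = 16 + 16 * j by omega, Nat.shiftRight_add]
    have e : pkN (n + 1) f >>> 16 = pkN n fun i => f (i + 1) := by
      rw [Nat.shiftRight_eq_div_pow]
      simp only [pkN]
      norm_num
      omega
    rw [e]
    exact pkN_lane n _ (fun i hi => hf (i + 1) (by omega)) j (by omega)

theorem pkN_add : ∀ (n : ℕ) (f g : ℕ → ℕ) (a : ℕ),
    a * pkN n f + pkN n g = pkN n fun i => a * f i + g i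
  | 0, f, g, a => by simp [pkN]
  | n + 1, f, g, a => by
    simp only [pkN]
    rw [← pkN_add n (fun i => f (i + 1)) (fun i => g (i + 1)) a]
    ring

theorem pkN_zero : ∀ n : ℕ, pkN n (fun _ => 0) = 0
  | 0 => rfl
  | n + 1 => by simp [pkN, pkN_zero n]

theorem rowN_eq (i : ℕ) : ∀ n ≤ 24, rowN (vecTab.getD i 0) n =
    pkN 275 fun j => ∑ k ∈ Finset.range n, nibN i k * nibN j k := by
  intro n
  induction n with
  | zero =>
    intro _
    simp only [Finset.range_zero, Finset.sum_empty]
    exact (pkN_zero 275).symm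
  | succ n ih =>
    intro hn
    show (vecTab.getD i 0 >>> (4 * n)) % 16 * colTab.getD n 0 + rowN (vecTab.getD i 0) n = _
    have hc := colB_true
    simp only [colB, Bool.and_eq_true, kallUpTo_iff, Nat.beq_eq] at hc
    rw [hc.1 n (by omega), ih (by omega), pkN_add]
    congr 1
    funext j
    rw [Finset.sum_range_succ]
    simp only [nibN]
    ring

theorem row_lane (i : ℕ) {j : ℕ} (hj : j < 275) :
    (rowN (vecTab.getD i 0) 24 >>> (16 * j)) % 65536 =
      ∑ k ∈ Finset.range 24, nibN i k * nibN j k := by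
  rw [rowN_eq i 24 le_rfl, pkN_lane 275 _ (fun l _ => ?_) j hj]
  calc ∑ k ∈ Finset.range 24, nibN i k * nibN l k ≤ ∑ _k ∈ Finset.range 24, 15 * 15 :=
        Finset.sum_le_sum fun k _ => Nat.mul_le_mul
          (Nat.le_of_lt_succ (Nat.mod_lt _ (by norm_num))) (Nat.le_of_lt_succ (Nat.mod_lt _ (by norm_num)))
    _ < 65536 := by simp

theorem range_map_sum (f : ℕ → ℤ) :
    ((List.range 24).map f).sum = ∑ k ∈ Finset.range 24, f k := rfl

theorem sum_lane {j : ℕ} (hj : j < 275) :
    (sumTab >>> (16 * j)) % 65536 = ∑ k ∈ Finset.range 24, nibN j k := by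
  have hc := colB_true
  simp only [colB, Bool.and_eq_true, Nat.beq_eq] at hc
  rw [hc.2, pkN_lane 275 _ (fun l _ => ?_) j hj]
  · rfl
  calc nibSum l = ∑ k ∈ Finset.range 24, nibN l k := rfl
    _ ≤ ∑ _k ∈ Finset.range 24, 15 :=
      Finset.sum_le_sum fun k _ => Nat.le_of_lt_succ (Nat.mod_lt _ (by norm_num))
    _ < 65536 := by simp

theorem dotL_vlN {i j : ℕ} (hi : i < 275) (hj : j < 275) :
    dotL (vlN i) (vlN j) + 8 * (((sumTab >>> (16 * i)) % 65536 : ℕ) + ((sumTab >>> (16 * j)) % 65536 : ℕ)) =
      ((rowN (vecTab.getD i 0) 24 >>> (16 * j)) % 65536 : ℕ) + 1536 := by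
  rw [row_lane i hj, sum_lane hi, sum_lane hj, dotL, vlN, vlN, List.zipWith_map,
    List.zipWith_self, range_map_sum]
  have e : ∀ k, ((((vecTab.getD i 0 >>> (4 * k)) % 16 : ℕ) : ℤ) - 8) *
      ((((vecTab.getD j 0 >>> (4 * k)) % 16 : ℕ) : ℤ) - 8) =
      ((nibN i k * nibN j k : ℕ) : ℤ) - 8 * (nibN i k : ℤ) - 8 * (nibN j k : ℤ) + 64 := by
    intro k
    simp only [nibN]
    push_cast
    ring
  simp only [e, Finset.sum_add_distrib, Finset.sum_sub_distrib, ← Finset.mul_sum, Finset.sum_const,
    Finset.card_range, Nat.cast_sum]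
  norm_num
  ring

theorem dot_vecX (i j : Fin 275) :
    (dotInt (vecX i : GolayPt → ℤ) (vecX j : GolayPt → ℤ) = 8 ↔ adjB i j = true) ∧
    (vecX i = vecX j → i = j) := by
  have h := dotB_true
  simp only [dotB, kallUpTo_iff, forceNat_eq, Bool.and_eq_true, beq_iff_eq] at h
  obtain ⟨h1, h2⟩ := h i i.isLt j j.isLt
  have hd := dotL_vlN i.isLt j.isLt
  have key : ∀ m : ℕ, dotL (vlN i) (vlN j) = m ↔
      (rowN (vecTab.getD i 0) 24 >>> (16 * (j : ℕ))) % 65536 + 1536 =
        8 * ((sumTab >>> (16 * (i : ℕ))) % 65536 + (sumTab >>> (16 * (j : ℕ))) % 65536) + m := by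
    intro m
    omega
  refine ⟨?_, fun e => ?_⟩
  · rw [dotInt_lists, vecL_vecX, vecL_vecX, show (8 : ℤ) = ((8 : ℕ) : ℤ) from rfl, key,
      show adjB i j = (adjN i).testBit j from rfl, ← h1, Nat.beq_eq]
  · have hv := congrArg (fun v : leechLattice => vecL (v : GolayPt → ℤ)) e
    simp only [vecL_vecX] at hv
    have h32 : dotL (vlN i) (vlN j) = ((32 : ℕ) : ℤ) := by rw [← hv]; exact (vec_facts i).2.1
    have := (key 32).1 h32
    rw [← Nat.beq_eq, h2, Nat.beq_eq] at this
    exact Fin.ext this

/-- The configuration, numbered. -/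
noncomputable def vecEquiv : Fin 275 ≃ ↥(mcConfig std48 std32) :=
  Equiv.ofBijective (fun i => ⟨vecX i, vecX_mem i⟩) (by
    have hc : Nat.card ↥(mcConfig std48 std32) = 275 := by
      rw [Nat.card_coe_set_eq, mcConfig_count codeUnique dot_uv.1 dot_uv.2.1 dot_uv.2.2]
    have : Finite ↥(mcConfig std48 std32) := Nat.finite_of_card_ne_zero (by omega)
    refine (Nat.bijective_iff_injective_and_card _).2 ⟨fun i j e => ?_, by simp [hc]⟩
    exact (dot_vecX i j).2 (congrArg Subtype.val e))

theorem smul_config (g : Spor.McL) {x : leechLattice} (hx : x ∈ mcConfig std48 std32) :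
    OuterMcL.emb g • x ∈ mcConfig std48 std32 := by
  obtain ⟨h1, h2⟩ := (OuterMcL.range_iff _).1 ⟨g, rfl⟩
  rw [mem_mcConfig_iff dot_uv.1] at hx ⊢
  set y := OuterMcL.emb g
  refine ⟨(sqNorm_smul y x).trans hx.1, ?_, ?_⟩
  · have := dotInt_smul y x std48
    rw [h1] at this
    exact this.trans hx.2.1
  · have := dotInt_smul y x std32
    rw [h2] at this
    exact this.trans hx.2.2

/-- The image of a vertex. -/
noncomputable def mclFun (g : Spor.McL) (i : Fin 275) : Fin 275 :=
  vecEquiv.symm ⟨_, smul_config g (vecX_mem i)⟩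

theorem vecX_mclFun (g : Spor.McL) (i : Fin 275) :
    vecX (mclFun g i) = OuterMcL.emb g • vecX i := by
  have h := vecEquiv.apply_symm_apply ⟨_, smul_config g (vecX_mem i)⟩
  exact congrArg Subtype.val h

theorem mclFun_mul (g g' : Spor.McL) (i : Fin 275) :
    mclFun (g * g') i = mclFun g (mclFun g' i) :=
  (dot_vecX _ _).2 (by rw [vecX_mclFun, vecX_mclFun, vecX_mclFun, map_mul, mul_smul])

theorem mclFun_one (i : Fin 275) : mclFun 1 i = i :=
  (dot_vecX _ _).2 (by rw [vecX_mclFun, map_one, one_smul])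

/-- The action of McL on the vertices. -/
noncomputable def mclHom : Spor.McL →* Equiv.Perm (Fin 275) where
  toFun g :=
    { toFun := mclFun g
      invFun := mclFun g⁻¹
      left_inv := fun i => by rw [← mclFun_mul, inv_mul_cancel, mclFun_one]
      right_inv := fun i => by rw [← mclFun_mul, mul_inv_cancel, mclFun_one] }
  map_one' := Equiv.ext mclFun_one
  map_mul' g g' := Equiv.ext (mclFun_mul g g')

/-- The automorphisms of the graph. -/
def autGraph : Subgroup (Equiv.Perm (Fin 275)) where
  carrier := {p | ∀ x y : Fin 275, adjB (p x) (p y) = adjB x y}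
  one_mem' := fun _ _ => rfl
  mul_mem' := fun {p q} hp hq x y => by rw [Equiv.Perm.mul_apply, Equiv.Perm.mul_apply, hp, hq]
  inv_mem' := fun {p} hp x y => by
    conv_rhs => rw [← Equiv.apply_symm_apply p x, ← Equiv.apply_symm_apply p y, hp]
    rfl

theorem mclHom_range : mclHom.range ≤ autGraph := by
  rintro _ ⟨g, rfl⟩ x y
  show adjB (mclFun g x) (mclFun g y) = adjB x y
  rw [Bool.eq_iff_iff, ← (dot_vecX _ _).1, ← (dot_vecX x y).1, vecX_mclFun, vecX_mclFun,
    dotInt_smul]

theorem mclHom_injective : Function.Injective mclHom := by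
  rw [injective_iff_map_eq_one]
  intro g hg
  refine OuterMcL.emb_injective ?_
  rw [map_one]
  refine ext_frame fun p => ?_
  rw [one_smul]
  set y := OuterMcL.emb g
  obtain ⟨h1, h2⟩ := (OuterMcL.range_iff y).1 ⟨g, rfl⟩
  have hfix : ∀ i, y • vecX i = vecX i := fun i => by
    rw [← vecX_mclFun, show mclFun g i = mclHom g i from rfl, hg]; rfl
  have hs := spanB_true
  simp only [spanB, Bool.and_eq_true, decide_eq_true_eq, List.all_eq_true, List.mem_range,
    beq_iff_eq] at hs
  obtain ⟨hpick, hrow⟩ := hs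
  obtain ⟨-, hcomb⟩ := hrow (idx p) (idx_lt p)
  have hmem := (vecP_combR_mem (fixedV y) (spanTab.getD (idx p) (0, [])).2 spanRows ?_).2
  · obtain ⟨v, hv, hgv⟩ := hmem
    have hframe : v = frame p + frame p + frame p := by
      apply Subtype.ext
      rw [hv, hcomb]
      funext k
      simp only [vecP, CoMatrix.getD_range_map _ _ (idx_lt k), Golay.idx_injective.eq_iff,
        AddSubgroup.coe_add, Pi.add_apply]
      show _ = (Pi.single p 8 : GolayPt → ℤ) k + (Pi.single p 8 : GolayPt → ℤ) k +
        (Pi.single p 8 : GolayPt → ℤ) k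
      rw [Pi.single_apply]
      split_ifs <;> norm_num
    rw [hframe, smul_add', smul_add'] at hgv
    apply Subtype.ext
    funext k
    have := congrFun (congrArg (fun v : leechLattice => (v : GolayPt → ℤ)) hgv) k
    simp only [AddSubgroup.coe_add, Pi.add_apply] at this
    omega
  · intro r hr
    obtain ⟨t, ht, rfl⟩ := List.mem_map.1 hr
    have ht' := hpick t ht
    split_ifs with e0 e1
    · exact ⟨by simp [uL], std48, by rw [← vecL_fixed.1]; funext k; simp only [vecP, vecL,
        CoMatrix.getD_range_map _ _ (idx_lt k), pt_idx], h1⟩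
    · exact ⟨by simp [vL], std32, by rw [← vecL_fixed.2]; funext k; simp only [vecP, vecL,
        CoMatrix.getD_range_map _ _ (idx_lt k), pt_idx], h2⟩
    · exact ⟨length_vlN _, vecX ⟨t - 2, by omega⟩,
        coe_lat (length_vlN _) (vec_facts ⟨t - 2, by omega⟩).1, hfix _⟩

/-- The automorphisms fixing some vertices. -/
def fixing (pre : List ℕ) : Subgroup autGraph where
  carrier := {p | ∀ i : Fin 275, (i : ℕ) ∈ pre → (p : Equiv.Perm (Fin 275)) i = i}
  one_mem' := fun _ _ => rfl
  mul_mem' := fun {p q} hp hq i hi => by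
    show (p : Equiv.Perm (Fin 275)) ((q : Equiv.Perm (Fin 275)) i) = i
    rw [hq i hi, hp i hi]
  inv_mem' := fun {p} hp i hi => by
    show (p : Equiv.Perm (Fin 275)).symm i = i
    rw [Equiv.symm_apply_eq, hp i hi]

theorem fixing_all : fixing baseTab = ⊥ := by
  rw [eq_bot_iff]
  intro p hp
  rw [Subgroup.mem_bot]
  refine Subtype.ext (Equiv.ext fun v => ?_)
  show (p : Equiv.Perm (Fin 275)) v = v
  by_cases hv : (v : ℕ) ∈ baseTab
  · exact hp v hv
  set w := (p : Equiv.Perm (Fin 275)) v with hw
  have hwb : (w : ℕ) ∉ baseTab := fun h => hv (by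
    have := hp w h
    rw [hw] at this
    have e := (p : Equiv.Perm (Fin 275)).injective this
    rw [← hw] at e
    rwa [← e])
  have hbase : ∀ b ∈ baseTab, b < 275 := by decide +kernel
  have hprof : profN v = profN w := by
    have : ∀ (L : List ℕ) (acc : ℕ), (∀ b ∈ L, b ∈ baseTab) →
        L.foldl (fun acc b => 2 * acc + if adjB b v then 1 else 0) acc =
          L.foldl (fun acc b => 2 * acc + if adjB b w then 1 else 0) acc := by
      intro L
      induction L with
      | nil => intro _ _; rfl
      | cons b L ih =>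
        intro acc hL
        have hb := hL b List.mem_cons_self
        have e : adjB b w = adjB b v := by
          have h1 := p.2 ⟨b, hbase b hb⟩ v
          rw [hp ⟨b, hbase b hb⟩ hb] at h1
          exact h1
        simp only [List.foldl_cons, e]
        exact ih _ fun x hx => hL x (List.mem_cons_of_mem _ hx)
    exact this baseTab 0 fun b hb => hb
  have hs := sepBaseB_true
  have hq := profB_true
  simp only [sepBaseB, profB, forceNat_eq, kallUpTo_iff, Bool.or_eq_true, Nat.beq_eq,
    Bool.not_eq_true', ← Bool.not_eq_true] at hs hq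
  have hM : ∀ u : Fin 275, (baseTab.foldl (fun acc b => acc ||| 1 <<< b) 0).testBit u = true →
      (u : ℕ) ∈ baseTab := by decide +kernel
  rcases (hs v v.isLt).resolve_left (fun h => hv (hM v h)) w w.isLt with (e | e) | e
  · exact (Fin.ext e).symm
  · exact absurd (hM w e) hwb
  · exact absurd (by rw [hq v v.isLt, hq w w.isLt, hprof]) e

theorem card_fixing : ∀ (pre rest sizes : List ℕ), pre ++ rest = baseTab →
    sizesOK pre rest sizes = true → Nat.card (fixing pre) ≤ sizes.prod
  | pre, [], [], e, _ => by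
    rw [List.append_nil] at e
    simp [e, fixing_all]
  | pre, b :: rest, s :: ss, e, h => by
    simp only [sizesOK, Bool.and_eq_true, Nat.ble_eq, Nat.blt_eq] at h
    obtain ⟨⟨hs, hb⟩, hrest⟩ := h
    have ih := card_fixing (pre ++ [b]) rest ss (by simp [← e]) hrest
    set P := fixing pre
    set bb : Fin 275 := ⟨b, hb⟩
    have h1 : Nat.card P = (MulAction.orbit P bb).ncard * Nat.card (MulAction.stabilizer P bb) := by
      rw [← MulAction.index_stabilizer, Subgroup.index_mul_card]
    have h2 : (MulAction.orbit P bb).ncard ≤ s := by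
      refine le_trans ?_ hs
      have hc : ∀ (n : ℕ) (f : ℕ → Bool),
          cnt n f = ((Finset.range n).filter fun i => f i = true).card := by
        intro n f
        induction n with
        | zero => rfl
        | succ n ih =>
          show (bif f n then cnt n f + 1 else cnt n f) = _
          rw [ih, Finset.range_add_one, Finset.filter_insert]
          cases hf : f n with
          | true => rw [if_pos rfl, Finset.card_insert_of_notMem (by simp)]; rfl
          | false => rw [if_neg (by simp)]; rfl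
      rw [hc, ← Set.ncard_coe_finset]
      refine Set.ncard_le_ncard_of_injOn Fin.val ?_ Fin.val_injective.injOn (Finset.finite_toSet _)
      rintro _ ⟨g, rfl⟩
      simp only [Finset.coe_filter, Finset.mem_range, Set.mem_ofPred_eq, List.all_eq_true,
        Bool.and_eq_true, Bool.not_eq_true', ← Bool.not_eq_true, Nat.beq_eq, beq_iff_eq]
      refine ⟨Fin.isLt _, fun u hu => ?_⟩
      have hu' : u < 275 := by
        have : ∀ u ∈ baseTab, u < 275 := by decide +kernel
        exact this u (e ▸ List.mem_append_left _ hu)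
      have hgu : ((g : autGraph) : Equiv.Perm (Fin 275)) ⟨u, hu'⟩ = ⟨u, hu'⟩ := g.2 _ hu
      refine ⟨fun eq => ?_, ?_⟩
      · have hne : b ≠ u := by
          rintro rfl
          have : baseTab.Nodup := by decide +kernel
          rw [← e] at this
          exact (List.nodup_append.1 this).2.2 b hu b List.mem_cons_self rfl
        apply hne
        have := ((g : autGraph) : Equiv.Perm (Fin 275)).injective
          ((show ((g : autGraph) : Equiv.Perm (Fin 275)) bb = ⟨u, hu'⟩ from Fin.ext eq).trans hgu.symm)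
        exact congrArg Fin.val this
      · have h := (g : autGraph).2 ⟨u, hu'⟩ bb
        rw [hgu] at h
        exact h
    have h3 : Nat.card (MulAction.stabilizer P bb) ≤ Nat.card (fixing (pre ++ [b])) := by
      refine Nat.card_le_card_of_injective (fun g => ⟨(g : P), fun i hi => ?_⟩) fun g g' e' =>
        Subtype.ext (Subtype.ext (congrArg (fun x : fixing (pre ++ [b]) => (x : autGraph)) e'))
      rcases List.mem_append.1 hi with hi | hi
      · exact g.1.2 i hi
      · rw [show i = bb from Fin.ext (List.mem_singleton.1 hi)]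
        exact g.2
    rw [h1, List.prod_cons]
    exact Nat.mul_le_mul h2 (h3.trans ih)
  | pre, [], s :: ss, _, h => by simp [sizesOK] at h
  | pre, b :: rest, [], _, h => by simp [sizesOK] at h

theorem card_autGraph : Nat.card autGraph ≤ 1796256000 := by
  have h := card_fixing [] baseTab baseSize rfl sizesOK_true
  rw [prod_sizes] at h
  refine le_of_eq_of_le ?_ h
  rw [show fixing [] = ⊤ from Subgroup.ext fun p =>
    ⟨fun _ => Subgroup.mem_top _, fun _ i hi => absurd hi List.not_mem_nil⟩, Subgroup.card_top]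

end Cfsg.Agent.McLRec3
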