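import Cfsg.Agent.McLRec3.Graph
import Cfsg.Agent.McLRec3.Model
import Cfsg.Agent.U43Seven.Normalizer

/-!
A rank three group on 275 points with stabiliser `PSU₄(3)` is McL.
-/

set_option autoImplicit false

namespace Cfsg.Agent.McLRec3

open Cfsg

variable {Ω : Type*} [Fintype Ω]

theorem no_index_two {H : Type*} [Group H] [Finite H] [IsSimpleGroup H]
    (hH : 2 < Nat.card H) (K : Subgroup H) : K.index ≠ 2 := by
  intro h
  rcases (Subgroup.normal_of_index_eq_two h).eq_bot_or_eq_top with e | e
  · rw [e, Subgroup.index_bot] at h; omega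
  · rw [e, Subgroup.index_top] at h; omega

/-- **Recognition of McL.** -/
theorem isoMcL {G : Type*} [Group G] [Finite G] [MulAction G Ω] [MulAction.IsPretransitive G Ω]
    [FaithfulSMul G Ω] {K : Type} [Field K] [Fintype K] (hK : Fintype.card K = 9) {a b c : Ω}
    (S : Setup G a b c) (e : MulAction.stabilizer G a ≃* Cfsg.PSU 4 K 3) :
    Nonempty (G ≃* Spor.McL) := by
  classical
  have hK' : Fintype.card K = 3 ^ 2 := by rw [hK]; norm_num
  obtain ⟨ψ⟩ := exists_lineEquiv hK'
  have hP : Nat.card (Cfsg.PSU 4 K 3) = 3265920 := U43Seven.card_PSU hK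
  have hR : Nat.card LineGroup = 3265920 := by rw [← Nat.card_congr ψ.toEquiv, hP]
  set ρ : LineGroup ≃* MulAction.stabilizer G a := ψ.symm.trans e.symm
  have hGa : Nat.card (MulAction.stabilizer G a) = 3265920 := by
    rw [Nat.card_congr e.toEquiv, hP]
  have hGidx : (MulAction.stabilizer G a).index = 275 := by
    rw [MulAction.index_stabilizer, MulAction.orbit_eq_univ, Set.ncard_univ, S.card]
  have hG : Nat.card G = 898128000 := by
    rw [← (MulAction.stabilizer G a).card_mul_index, hGa, hGidx]
  obtain ⟨f, hf⟩ := exists_labelling S hR ρ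
  let φ : G →* Equiv.Perm (Fin 275) :=
    f.symm.permCongrHom.toMonoidHom.comp (MulAction.toPermHom G Ω)
  have hφ : ∀ g i, f (φ g i) = g • f i := fun g i => f.apply_symm_apply _
  have hinj : Function.Injective φ := by
    intro g g' h
    refine FaithfulSMul.eq_of_smul_eq_smul fun x : Ω => ?_
    obtain ⟨i, rfl⟩ := f.surjective x
    rw [← hφ, ← hφ, h]
  have hle : φ.range ≤ autGraph := by
    rintro _ ⟨g, rfl⟩ x y
    rw [Bool.eq_iff_iff, ← hf, ← hf, hφ, hφ, adj_smul_iff]
  have : IsSimpleGroup (Cfsg.PSU 4 K 3) := Cfsg.Agent.Unitary.isSimpleGroup_PSU hK' (by norm_num) (by norm_num)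
  have hG2 : ∀ L : Subgroup G, L.index ≠ 2 := by
    intro L hL
    set M : Subgroup (Cfsg.PSU 4 K 3) :=
      (L.subgroupOf (MulAction.stabilizer G a)).comap e.symm.toMonoidHom
    have hM : M.index = L.relIndex (MulAction.stabilizer G a) := by
      rw [Subgroup.index_comap_of_surjective _ e.symm.surjective]; rfl
    have h2 : L.relIndex (MulAction.stabilizer G a) ≤ 2 := by
      haveI := Subgroup.normal_of_index_eq_two hL
      exact (Nat.le_of_dvd (by omega) (hL ▸ Subgroup.relIndex_dvd_index_of_normal L _))
    have h1 : L.relIndex (MulAction.stabilizer G a) = 1 := by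
      have hne : M.index ≠ 2 := no_index_two (by rw [hP]; norm_num) M
      have h0 : M.index ≠ 0 := Subgroup.index_ne_zero_of_finite
      omega
    have hd := Subgroup.index_dvd_of_le (Subgroup.relIndex_eq_one.1 h1)
    rw [hL, hGidx] at hd
    norm_num at hd
  have hM : Nat.card mclHom.range = 898128000 := by
    rw [← Nat.card_congr (MonoidHom.ofInjective mclHom_injective).toEquiv,
      SporStruct.OuterMcL.card_McL]
  have hidx : (mclHom.range.subgroupOf autGraph).index ≤ 2 := by
    have h := (mclHom.range.subgroupOf autGraph).card_mul_index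
    rw [Nat.card_congr (Subgroup.subgroupOfEquivOfLe mclHom_range).toEquiv, hM] at h
    have := card_autGraph
    omega
  let φ' : G →* autGraph := φ.codRestrict autGraph fun g => hle ⟨g, rfl⟩
  have hL : ((mclHom.range.subgroupOf autGraph).comap φ').index ≤ 2 := by
    rw [Subgroup.index_comap]
    refine le_trans (Nat.le_of_dvd ?_ ?_) hidx
    · exact Nat.pos_of_ne_zero Subgroup.index_ne_zero_of_finite
    · rcases Nat.lt_or_ge (mclHom.range.subgroupOf autGraph).index 2 with h | h
      · have h0 : (mclHom.range.subgroupOf autGraph).index ≠ 0 := Subgroup.index_ne_zero_of_finite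
        have e1 : mclHom.range.subgroupOf autGraph = ⊤ := Subgroup.index_eq_one.1 (by omega)
        simp [e1]
      · haveI := Subgroup.normal_of_index_eq_two
          (show (mclHom.range.subgroupOf autGraph).index = 2 by omega)
        exact Subgroup.relIndex_dvd_index_of_normal _ _
  have htop : (mclHom.range.subgroupOf autGraph).comap φ' = ⊤ := by
    have h0 : ((mclHom.range.subgroupOf autGraph).comap φ').index ≠ 0 :=
      Subgroup.index_ne_zero_of_finite
    have h2 := hG2 ((mclHom.range.subgroupOf autGraph).comap φ')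
    exact Subgroup.index_eq_one.1 (by omega)
  have hsub : φ.range ≤ mclHom.range := by
    rintro _ ⟨g, rfl⟩
    have : g ∈ (mclHom.range.subgroupOf autGraph).comap φ' := htop.symm ▸ Subgroup.mem_top g
    exact this
  have heq : φ.range = mclHom.range := Subgroup.eq_of_le_of_card_ge hsub (by
    rw [hM, ← Nat.card_congr (MonoidHom.ofInjective hinj).toEquiv, hG])
  exact ⟨((MonoidHom.ofInjective hinj).trans (MulEquiv.subgroupCongr heq)).trans
    (MonoidHom.ofInjective mclHom_injective).symm⟩

end Cfsg.Agent.McLRec3
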