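import Cfsg.Agent.McLRec3.Basic
import Cfsg.Agent.SporStruct.CoMatrix

/-!
The checks on the vectors and on the base of the graph.
-/

set_option autoImplicit false

namespace Cfsg.Agent.McLRec3

open Cfsg.Agent.ChevCore Cfsg.Agent.CosetEnum Cfsg.Agent.SporStruct CoMatrix

/-- A coordinate list. -/
def vlN (i : ℕ) : List ℤ :=
  (List.range 24).map fun k => (((vecTab.getD i 0 >>> (4 * k)) % 16 : ℕ) : ℤ) - 8

/-- The first fixed vector. -/
def uL : List ℤ := (List.range 24).map fun k => if k = 23 then 5 else 1

/-- The second fixed vector. -/
def vL : List ℤ := (List.range 24).map fun k => if k = 0 then 4 else if k = 23 then 4 else 0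

/-- The conditions on the vectors. -/
noncomputable def vecB : Bool :=
  kallUpTo 275 fun i => inLB (vlN i) && (dotL (vlN i) (vlN i) == 32) &&
    (dotL (vlN i) uL == 24) && (dotL (vlN i) vL == 16)

/-- A shifted coordinate. -/
def nibN (i k : ℕ) : ℕ := (vecTab.getD i 0 >>> (4 * k)) % 16

/-- A packed sequence. -/
def pkN : ℕ → (ℕ → ℕ) → ℕ
  | 0, _ => 0
  | n + 1, f => f 0 + 65536 * pkN n fun i => f (i + 1)

/-- The shifted sum of a vector. -/
def nibSum (i : ℕ) : ℕ := ((List.range 24).map fun k => nibN i k).sum

/-- The packed tables are right. -/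
noncomputable def colB : Bool :=
  (kallUpTo 24 fun k => Nat.beq (colTab.getD k 0) (pkN 275 fun j => nibN j k)) &&
    Nat.beq sumTab (pkN 275 nibSum)

/-- All products with a vector, packed. -/
noncomputable def rowN (v : ℕ) (n : ℕ) : ℕ :=
  Nat.rec 0 (fun k acc => (v >>> (4 * k)) % 16 * colTab.getD k 0 + acc) n

/-- The dot products give the graph. -/
noncomputable def dotB : Bool :=
  kallUpTo 275 fun i => forceNat (vecTab.getD i 0) fun v => forceNat (rowN v 24) fun R =>
    forceNat ((sumTab >>> (16 * i)) % 65536) fun S => forceNat (adjN i) fun A =>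
    kallUpTo 275 fun j => forceNat ((R >>> (16 * j)) % 65536 + 1536) fun d =>
      forceNat (8 * (S + (sumTab >>> (16 * j)) % 65536)) fun t =>
        Nat.beq d (t + 8) == A.testBit j && Nat.beq d (t + 32) == Nat.beq i j

/-- The spanning rows. -/
def spanRows : List (List ℤ) :=
  spanPick.map fun t => if t = 0 then uL else if t = 1 then vL else vlN (t - 2)

/-- The frame is spanned. -/
def spanB : Bool :=
  decide (spanPick.all fun t => decide (t < 277)) &&
  (List.range 24).all fun p =>
    (spanTab.getD p (0, [])).1 == 3 &&
      combR (spanTab.getD p (0, [])).2 spanRows ==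
        (List.range 24).map (fun k => if k = p then (24 : ℤ) else 0)

/-- The class sizes along the base. -/
noncomputable def sizesOK : List ℕ → List ℕ → List ℕ → Bool
  | _, [], [] => true
  | pre, b :: rest, s :: ss =>
    Nat.ble (cnt 275 fun v => pre.all fun u => !Nat.beq v u && adjB u v == adjB u b) s &&
      Nat.blt b 275 && sizesOK (pre ++ [b]) rest ss
  | _, _, _ => false

/-- The profile of a vertex. -/
def profN (v : ℕ) : ℕ :=
  baseTab.foldl (fun acc b => 2 * acc + if adjB b v then 1 else 0) 0

/-- The base separates the vertices. -/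
noncomputable def sepBaseB : Bool :=
  forceNat ((List.range 275).foldl (fun acc v => acc ||| profN v <<< (20 * v)) 0) fun P =>
    forceNat (baseTab.foldl (fun acc b => acc ||| 1 <<< b) 0) fun M =>
    kallUpTo 275 fun v => M.testBit v || forceNat ((P >>> (20 * v)) % 2 ^ 20) fun x =>
      kallUpTo 275 fun w => Nat.beq v w || M.testBit w || !Nat.beq x ((P >>> (20 * w)) % 2 ^ 20)

/-- The packed profiles are the profiles. -/
noncomputable def profB : Bool :=
  forceNat ((List.range 275).foldl (fun acc v => acc ||| profN v <<< (20 * v)) 0) fun P =>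
    kallUpTo 275 fun v => Nat.beq ((P >>> (20 * v)) % 2 ^ 20) (profN v)

theorem vecB_true : vecB = true := by decide +kernel
theorem colB_true : colB = true := by decide +kernel
theorem dotB_true : dotB = true := by decide +kernel
theorem spanB_true : spanB = true := by decide +kernel
theorem sizesOK_true : sizesOK [] baseTab baseSize = true := by decide +kernel
theorem sepBaseB_true : sepBaseB = true := by decide +kernel
theorem profB_true : profB = true := by decide +kernel
theorem prod_sizes : baseSize.prod = 1796256000 := by decide +kernel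

end Cfsg.Agent.McLRec3
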